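import Cfsg.Agent.H154.PG
import Cfsg.Agent.S0721
import Cfsg.Agent.OrdDiv.Core
import Cfsg.Agent.H341.ThreeList_m3
import Cfsg.Agent.Prune
set_option linter.all false
open scoped Cfsg.Agent.FastGrp

/-- decoders of the packed data (elaboration time only) -/
private noncomputable def pk61d (b S i : Nat) : Nat := Nat.mod (Nat.shiftRight S (Nat.mul b i)) (Nat.shiftLeft (nat_lit 1) b)
private noncomputable def pk61f {α : Type} (t : Nat) (f : Nat → α) : α := Nat.rec (f Nat.zero) (fun k _ => f (Nat.succ k)) t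
private noncomputable def pk61l {α : Type} (f : Nat → α) (s e : Nat) (tl : List α) : List α :=
  pk61f e fun e => Nat.rec tl (fun k ih => List.cons (pk61f (Nat.sub e (Nat.succ k)) f) ih) (Nat.sub e s)
private noncomputable def lq261a5236b9 {T : Sort _} (f :
    type_of% (@_root_.Prod.mk.{0, 0}) →
    type_of% (@_root_.List.cons.{0}) →
    type_of% (@_root_.List.nil.{0}) →
    type_of% (@_root_.List.cons.{0} (Prod Nat (Prod Nat (Prod Nat (List (Prod Nat Nat)))))) →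
    type_of% (@_root_.List.cons.{0} (Nat)) →
    type_of% (@_root_.Bool.false) →
    type_of% (@_root_.Nat.beq) →
    type_of% (@_root_.Nat.sub) →
    type_of% (@_root_.Bool.true) →
    type_of% (@_root_.Nat.add) →
    type_of% (@_root_.Nat.pow) →
    type_of% (@_root_.Nat.mod) →
    type_of% (@_root_.Nat.ble) →
    type_of% (@_root_.Nat.succ) →
    type_of% (@_root_.Nat.mul) →
    type_of% (@_root_.Cfsg.Agent.OrdDiv.Grp.alt) →
    type_of% (@_root_.Cfsg.Agent.OrdDiv.Grp.psl) →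
    type_of% (@_root_.Cfsg.Agent.OrdDiv.fPSL) →
    type_of% (@_root_.Cfsg.Agent.OrdDiv.Grp.psp) →
    type_of% (@_root_.Cfsg.Agent.OrdDiv.fPSp) →
    type_of% (@_root_.Cfsg.Agent.OrdDiv.Grp.psu) →
    type_of% (@_root_.Cfsg.Agent.OrdDiv.fPSU) →
    type_of% (@_root_.Cfsg.Agent.OrdDiv.Grp.oodd) →
    type_of% (@_root_.Cfsg.Agent.OrdDiv.fOOdd) →
    type_of% (@_root_.Cfsg.Agent.OrdDiv.Grp.oplus) →
    type_of% (@_root_.Cfsg.Agent.OrdDiv.fOPlus) →
    type_of% (@_root_.Cfsg.Agent.OrdDiv.Grp.ominus) →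
    type_of% (@_root_.Cfsg.Agent.OrdDiv.fOMinus) →
    type_of% (@_root_.Cfsg.Agent.OrdDiv.Grp.g2) →
    type_of% (@_root_.Cfsg.Agent.OrdDiv.fG2) →
    type_of% (@_root_.Cfsg.Agent.OrdDiv.Grp.f4) →
    type_of% (@_root_.Cfsg.Agent.OrdDiv.fF4) →
    type_of% (@_root_.Cfsg.Agent.OrdDiv.Grp.e6) →
    type_of% (@_root_.Cfsg.Agent.OrdDiv.fE6) →
    type_of% (@_root_.Cfsg.Agent.OrdDiv.Grp.e7) →
    type_of% (@_root_.Cfsg.Agent.OrdDiv.fE7) →
    type_of% (@_root_.Cfsg.Agent.OrdDiv.Grp.e8) →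
    type_of% (@_root_.Cfsg.Agent.OrdDiv.fE8) →
    type_of% (@_root_.Cfsg.Agent.OrdDiv.Grp.te6) →
    type_of% (@_root_.Cfsg.Agent.OrdDiv.fTE6) →
    type_of% (@_root_.Cfsg.Agent.OrdDiv.Grp.td4) →
    type_of% (@_root_.Cfsg.Agent.OrdDiv.fTD4) →
    type_of% (@_root_.Cfsg.Agent.OrdDiv.Grp.sz) →
    type_of% (@_root_.Cfsg.Agent.OrdDiv.fSz) →
    type_of% (@_root_.Cfsg.Agent.OrdDiv.Grp.ree) →
    type_of% (@_root_.Cfsg.Agent.OrdDiv.fRee) →
    type_of% (@_root_.Cfsg.Agent.OrdDiv.Grp.tf4) →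
    type_of% (@_root_.Cfsg.Agent.OrdDiv.fTF4) →
    type_of% (@_root_.Cfsg.Agent.OrdDiv.spor) → T) : T :=
  f (@_root_.Prod.mk.{0, 0}) (@_root_.List.cons.{0}) (@_root_.List.nil.{0}) (@_root_.List.cons.{0} (Prod Nat (Prod Nat (Prod Nat (List (Prod Nat Nat)))))) (@_root_.List.cons.{0} (Nat)) (@_root_.Bool.false) (@_root_.Nat.beq) (@_root_.Nat.sub) (@_root_.Bool.true) (@_root_.Nat.add) (@_root_.Nat.pow) (@_root_.Nat.mod) (@_root_.Nat.ble) (@_root_.Nat.succ) (@_root_.Nat.mul) (@_root_.Cfsg.Agent.OrdDiv.Grp.alt) (@_root_.Cfsg.Agent.OrdDiv.Grp.psl) (@_root_.Cfsg.Agent.OrdDiv.fPSL) (@_root_.Cfsg.Agent.OrdDiv.Grp.psp) (@_root_.Cfsg.Agent.OrdDiv.fPSp) (@_root_.Cfsg.Agent.OrdDiv.Grp.psu) (@_root_.Cfsg.Agent.OrdDiv.fPSU) (@_root_.Cfsg.Agent.OrdDiv.Grp.oodd) (@_root_.Cfsg.Agent.OrdDiv.fOOdd) (@_root_.Cfsg.Agent.OrdDiv.Grp.oplus) (@_root_.Cfsg.Agent.OrdDiv.fOPlus) (@_root_.Cfsg.Agent.OrdDiv.Grp.ominus) (@_root_.Cfsg.Agent.OrdDiv.fOMinus)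 (@_root_.Cfsg.Agent.OrdDiv.Grp.g2) (@_root_.Cfsg.Agent.OrdDiv.fG2) (@_root_.Cfsg.Agent.OrdDiv.Grp.f4) (@_root_.Cfsg.Agent.OrdDiv.fF4) (@_root_.Cfsg.Agent.OrdDiv.Grp.e6) (@_root_.Cfsg.Agent.OrdDiv.fE6) (@_root_.Cfsg.Agent.OrdDiv.Grp.e7) (@_root_.Cfsg.Agent.OrdDiv.fE7) (@_root_.Cfsg.Agent.OrdDiv.Grp.e8) (@_root_.Cfsg.Agent.OrdDiv.fE8) (@_root_.Cfsg.Agent.OrdDiv.Grp.te6) (@_root_.Cfsg.Agent.OrdDiv.fTE6) (@_root_.Cfsg.Agent.OrdDiv.Grp.td4) (@_root_.Cfsg.Agent.OrdDiv.fTD4) (@_root_.Cfsg.Agent.OrdDiv.Grp.sz) (@_root_.Cfsg.Agent.OrdDiv.fSz) (@_root_.Cfsg.Agent.OrdDiv.Grp.ree) (@_root_.Cfsg.Agent.OrdDiv.fRee) (@_root_.Cfsg.Agent.OrdDiv.Grp.tf4) (@_root_.Cfsg.Agent.OrdDiv.fTF4) (@_root_.Cfsg.Agent.OrdDiv.spor)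

-- part: H154/PGTwo
section
/-!
# Prime graph: solvable groups, direct powers, isolated primes (helper154)
-/

set_option autoImplicit false

namespace Cfsg.Agent.H154.PG

open Subgroup

universe u

/-- the `p`-part of the index of a normal subgroup whose order is prime to `p` -/
theorem factorization_quotient {G : Type u} [Group G] [Finite G] (V : Subgroup G) {p : ℕ}
    (h : ¬ p ∣ Nat.card V) : (Nat.card (G ⧸ V)).factorization p = (Nat.card G).factorization p := by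
  have h1 := Subgroup.card_mul_index V
  rw [Subgroup.index_eq_card] at h1
  rw [← h1, Nat.factorization_mul Nat.card_pos.ne' Nat.card_pos.ne', Finsupp.add_apply,
    Nat.factorization_eq_zero_of_not_dvd h, zero_add]

/-- a minimal normal subgroup above `N` -/
theorem exists_min_above {G : Type u} [Group G] [Finite G] (N : Subgroup G) (hN : N ≠ ⊤) :
    ∃ M : Subgroup G, M.Normal ∧ N < M ∧
      ∀ L : Subgroup G, L.Normal → N ≤ L → L ≤ M → L = N ∨ L = M := by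
  have hfin : {M : Subgroup G | M.Normal ∧ N < M}.Finite := Set.toFinite _
  have hne : {M : Subgroup G | M.Normal ∧ N < M}.Nonempty :=
    ⟨⊤, inferInstance, lt_of_le_of_ne le_top hN⟩
  obtain ⟨M, ⟨hMn, hNM⟩, hmin⟩ := hfin.exists_minimal hne
  refine ⟨M, hMn, hNM, fun L hL hNL hLM => ?_⟩
  rcases eq_or_lt_of_le hNL with h | h
  · exact Or.inl h.symm
  · exact Or.inr (le_antisymm hLM (hmin ⟨hL, h⟩ hLM))

/-- **Solvable groups**: if `p`, `q` are non-adjacent primes dividing `|G|`, `G` solvable, then the full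
`q`-part divides some `p ^ a - 1`, `1 ≤ a ≤ v_p |G|`, or conversely. -/
theorem solvable_dvd {p q : ℕ} (hp : p.Prime) (hq : q.Prime) (hpq : p ≠ q) :
    ∀ (n : ℕ) (G : Type u) [Group G] [Finite G], Nat.card G = n → Group.IsSolvable G → NonAdj G p q →
      p ∣ Nat.card G → q ∣ Nat.card G →
      (∃ a, 1 ≤ a ∧ a ≤ (Nat.card G).factorization p ∧ q ^ (Nat.card G).factorization q ∣ p ^ a - 1) ∨
      (∃ b, 1 ≤ b ∧ b ≤ (Nat.card G).factorization q ∧ p ^ (Nat.card G).factorization p ∣ q ^ b - 1) := by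
  have hFp : Fact p.Prime := ⟨hp⟩
  have hFq : Fact q.Prime := ⟨hq⟩
  intro n
  induction n using Nat.strong_induction_on with
  | _ n ih =>
    intro G _ _ hn hsol hna hpG hqG
    -- the case of a normal p-subgroup
    have key : ∀ (p q : ℕ) (hp : p.Prime) (hq : q.Prime) (hpq : p ≠ q), NonAdj G p q →
        ∀ V : Subgroup G, V.Normal → V ≠ ⊥ → IsPGroup p V →
        ∃ a, 1 ≤ a ∧ a ≤ (Nat.card G).factorization p ∧ q ^ (Nat.card G).factorization q ∣ p ^ a - 1 := by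
      intro p q hp hq hpq hna V hVn hV hVp
      have hFp : Fact p.Prime := ⟨hp⟩
      have hFq : Fact q.Prime := ⟨hq⟩
      obtain ⟨Q⟩ : Nonempty (Sylow q G) := inferInstance
      obtain ⟨a, ha⟩ := (IsPGroup.iff_card).1 hVp
      have hd := card_dvd_sub_one hp hq hpq hna hVp Q.isPGroup'
        (by rw [Subgroup.normalizer_eq_top]; exact le_top)
      rw [ha, Q.card_eq_multiplicity] at hd
      refine ⟨a, ?_, ?_, hd⟩
      · rcases Nat.eq_zero_or_pos a with h0 | h0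
        · exfalso
          rw [h0, pow_zero] at ha
          exact hV (Subgroup.card_eq_one.1 ha)
        · exact h0
      · have h1 : p ^ a ∣ Nat.card G := ha ▸ Subgroup.card_subgroup_dvd_card V
        exact (hp.pow_dvd_iff_le_factorization Nat.card_pos.ne').1 h1
    have : Nontrivial G := by
      have : 1 < Nat.card G := lt_of_lt_of_le hp.one_lt (Nat.le_of_dvd Nat.card_pos hpG)
      exact Finite.one_lt_card_iff_nontrivial.1 this
    obtain ⟨V, hVn, hV0, hmin'⟩ := exists_min_above (⊥ : Subgroup G) bot_ne_top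
    have hV : V ≠ ⊥ := hV0.ne'
    have hmin : ∀ M : Subgroup G, M.Normal → M ≤ V → M = ⊥ ∨ M = V :=
      fun M hM hMV => hmin' M hM bot_le hMV
    obtain ⟨-, s, hs, hexp⟩ := Cfsg.Agent.S0043.result V hV hmin
    have hVs : IsPGroup s V := fun x => ⟨1, by
      rw [pow_one]; exact Subtype.ext (hexp x.1 x.2)⟩
    have hFs : Fact s.Prime := ⟨hs⟩
    by_cases hsp : s = p
    · subst hsp
      exact Or.inl (key s q hp hq hpq hna V hVn hV hVs)
    by_cases hsq : s = q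
    · subst hsq
      exact Or.inr (key s p hq hp (Ne.symm hpq) hna.symm V hVn hV hVs)
    · obtain ⟨a, ha⟩ := (IsPGroup.iff_card).1 hVs
      have hpV : ¬ p ∣ Nat.card V := by
        rw [ha]; intro h
        exact hsp ((Nat.prime_dvd_prime_iff_eq hp hs).1 (hp.dvd_of_dvd_pow h)).symm
      have hqV : ¬ q ∣ Nat.card V := by
        rw [ha]; intro h
        exact hsq ((Nat.prime_dvd_prime_iff_eq hq hs).1 (hq.dvd_of_dvd_pow h)).symm
      have h1 := Subgroup.card_mul_index V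
      rw [Subgroup.index_eq_card] at h1
      have hlt : Nat.card (G ⧸ V) < n := by
        rw [← hn, ← h1]
        have h2 : 1 < Nat.card V := by
          rw [Finite.one_lt_card_iff_nontrivial, Subgroup.nontrivial_iff_ne_bot]; exact hV
        have h3 : 0 < Nat.card (G ⧸ V) := Nat.card_pos
        nlinarith
      have h4 := ih _ hlt (G ⧸ V) rfl inferInstance
        (hna.of_surjective (QuotientGroup.mk' V) (QuotientGroup.mk'_surjective V))
        (by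
          rw [← h1] at hpG
          exact ((Nat.Prime.dvd_mul hp).1 hpG).resolve_left hpV)
        (by
          rw [← h1] at hqG
          exact ((Nat.Prime.dvd_mul hq).1 hqG).resolve_left hqV)
      rw [factorization_quotient V hpV, factorization_quotient V hqV] at h4
      exact h4

/-- in a direct power with at least two factors all primes of the factor are adjacent -/
theorem adj_of_pi {G : Type*} [Group G] {T : Type*} [Group T] [Finite T] {m : ℕ} (hm : 2 ≤ m)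
    (f : (Fin m → T) →* G) (hf : Function.Injective f) {p q : ℕ} (hp : p.Prime) (hq : q.Prime)
    (hpq : p ≠ q) (hpT : p ∣ Nat.card T) (hqT : q ∣ Nat.card T) : ¬ NonAdj G p q := by
  intro h
  have hFp : Fact p.Prime := ⟨hp⟩
  have hFq : Fact q.Prime := ⟨hq⟩
  obtain ⟨x, hx⟩ := exists_prime_orderOf_dvd_card' p hpT
  obtain ⟨y, hy⟩ := exists_prime_orderOf_dvd_card' q hqT
  let i : Fin m := ⟨0, by omega⟩
  let j : Fin m := ⟨1, by omega⟩
  have hij : i ≠ j := by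
    intro h
    have := congrArg Fin.val h
    simp [i, j] at this
  refine h.not_commute hp hq hpq (x := f (Pi.mulSingle i x)) (y := f (Pi.mulSingle j y)) ?_ ?_ ?_
  · rw [orderOf_injective f hf]
    rw [← hx]
    exact orderOf_injective (MonoidHom.mulSingle (fun _ : Fin m => T) i)
      (Pi.mulSingle_injective (M := fun _ : Fin m => T) i) x
  · rw [orderOf_injective f hf]
    rw [← hy]
    exact orderOf_injective (MonoidHom.mulSingle (fun _ : Fin m => T) j)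
      (Pi.mulSingle_injective (M := fun _ : Fin m => T) j) y
  · exact (Pi.mulSingle_commute hij x y).map f

/-- **Thompson**: a normal subgroup `M` of order prime to `b`, `b ∣ |G|`, all of whose primes are non-adjacent
to `b`, is nilpotent. -/
theorem nilpotent_of_isolated {G : Type*} [Group G] [Finite G] (M : Subgroup G) [M.Normal] {b : ℕ}
    (hb : b.Prime) (hbG : b ∣ Nat.card G) (hbM : ¬ b ∣ Nat.card M)
    (h : ∀ p : ℕ, p.Prime → p ∣ Nat.card M → NonAdj G b p) : Group.IsNilpotent M := by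
  have hFb : Fact b.Prime := ⟨hb⟩
  obtain ⟨y, hy⟩ := exists_prime_orderOf_dvd_card' b hbG
  by_cases htriv : Nontrivial M
  · let φ : MulAut M := MulAut.conjNormal y
    have hfix : ∀ x : M, φ x = x → x = 1 := by
      intro x hx
      by_contra hx1
      have hx' : y * (x : G) * y⁻¹ = x := by
        have := congrArg Subtype.val hx
        rwa [MulAut.conjNormal_apply] at this
      have hcomm : Commute y (x : G) := mul_inv_eq_iff_eq_mul.1 hx'
      have ho : orderOf x ≠ 1 := fun h => hx1 (orderOf_eq_one_iff.1 h)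
      obtain ⟨p, hp, hpo⟩ := Nat.exists_prime_and_dvd ho
      have hpM : p ∣ Nat.card M := hpo.trans (orderOf_dvd_natCard x)
      have h1 : orderOf (x ^ (orderOf x / p)) = p := orderOf_pow_orderOf_div (orderOf_pos x).ne' hpo
      refine (h p hp hpM).not_commute hb hp (fun hbp => hbM (hbp ▸ hpM)) hy
        (y := ((x ^ (orderOf x / p) : M) : G)) ?_ ?_
      · rw [Subgroup.orderOf_coe, h1]
      · rw [SubgroupClass.coe_pow]
        exact hcomm.pow_right _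
    refine Cfsg.Agent.S0033.result (φ : M ≃* M) ?_ b hb ?_
    · intro x hx
      exact hfix x hx
    · have hpow : φ ^ b = 1 := by
        change (MulAut.conjNormal y : MulAut M) ^ b = 1
        rw [← map_pow, ← hy, pow_orderOf_eq_one, map_one]
      refine orderOf_eq_prime hpow ?_
      intro h1
      obtain ⟨x, hx⟩ := exists_ne (1 : M)
      exact hx (hfix x (by rw [h1]; rfl))
  · have : Subsingleton M := not_nontrivial_iff_subsingleton.1 htriv
    infer_instance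

end Cfsg.Agent.H154.PG
end

-- part: H154/PGNum
section
/-!
# Prime graph: the numerical test (helper154)

`simple_of_check` : a finite group of order `n` with disconnected prime graph is simple, provided a computation
on `n` and on the list of the orders of the nonabelian simple groups of order dividing `n` succeeds.
-/

set_option autoImplicit false

namespace Cfsg.Agent.H154.PG

open Subgroup

universe u

/-! ### Boolean functions -/

def anyLt (f : ℕ → Bool) : ℕ → Bool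
  | 0 => false
  | n + 1 => f n || anyLt f n

def allLt (f : ℕ → Bool) : ℕ → Bool
  | 0 => true
  | n + 1 => f n && allLt f n

theorem anyLt_eq {f : ℕ → Bool} {n : ℕ} : anyLt f n = true ↔ ∃ a < n, f a = true := by
  induction n with
  | zero => simp [anyLt]
  | succ n ih =>
    rw [anyLt, Bool.or_eq_true, ih]
    constructor
    · rintro (h | ⟨a, ha, h⟩)
      · exact ⟨n, Nat.lt_succ_self n, h⟩
      · exact ⟨a, by omega, h⟩
    · rintro ⟨a, ha, h⟩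
      rcases Nat.lt_succ_iff_lt_or_eq.1 ha with h1 | h1
      · exact Or.inr ⟨a, h1, h⟩
      · exact Or.inl (h1 ▸ h)

theorem allLt_eq {f : ℕ → Bool} {n : ℕ} : allLt f n = true ↔ ∀ a < n, f a = true := by
  induction n with
  | zero => simp [allLt]
  | succ n ih =>
    rw [allLt, Bool.and_eq_true, ih]
    constructor
    · rintro ⟨h1, h2⟩ a ha
      rcases Nat.lt_succ_iff_lt_or_eq.1 ha with h3 | h3
      · exact h2 a h3
      · exact h3 ▸ h1
    · intro h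
      exact ⟨h n (Nat.lt_succ_self n), fun a ha => h a (by omega)⟩

/-- divisibility -/
def dv (a b : ℕ) : Bool := Nat.beq (b % a) 0

theorem dv_eq {a b : ℕ} : dv a b = true ↔ a ∣ b := by
  rw [dv, Nat.beq_eq, Nat.dvd_iff_mod_eq_zero]

/-- `v_p(o)`, with fuel -/
def val (p : ℕ) : ℕ → ℕ → ℕ
  | 0, _ => 0
  | f + 1, o => cond (dv p o) (val p f (o / p) + 1) 0

theorem val_eq {p : ℕ} (hp : p.Prime) : ∀ (f o : ℕ), o ≠ 0 → o.factorization p ≤ f →
    val p f o = o.factorization p := by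
  intro f
  induction f with
  | zero => intro o _ h; rw [val]; omega
  | succ f ih =>
    intro o ho h
    rw [val]
    by_cases hd : p ∣ o
    · rw [dv_eq.2 hd, cond_true]
      obtain ⟨m, rfl⟩ := hd
      have hm : m ≠ 0 := by rintro rfl; exact ho (mul_zero _)
      have h1 : (p * m).factorization p = m.factorization p + 1 := by
        rw [Nat.factorization_mul hp.ne_zero hm, Finsupp.add_apply, hp.factorization_self, add_comm]
      rw [Nat.mul_div_cancel_left _ hp.pos, ih m hm (by omega), h1]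
    · have h0 : dv p o = false := by
        rw [← Bool.not_eq_true, dv_eq]; exact hd
      rw [h0, cond_false, Nat.factorization_eq_zero_of_not_dvd hd]

/-- the exponent of `p` in the factor list -/
def ex (p : ℕ) : List (ℕ × ℕ) → ℕ
  | [] => 0
  | x :: l => cond (Nat.beq x.1 p) x.2 (ex p l)

theorem ex_mem {p : ℕ} : ∀ {l : List (ℕ × ℕ)}, (∃ k, (p, k) ∈ l) → (p, ex p l) ∈ l
  | [], ⟨_, h⟩ => absurd h (by simp)
  | x :: l, ⟨k, h⟩ => by
    rw [ex]
    by_cases hx : x.1 = p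
    · rw [show Nat.beq x.1 p = true by rw [Nat.beq_eq]; exact hx, cond_true]
      have : (p, x.2) = x := by rw [← hx]
      rw [this]; exact List.mem_cons_self
    · have h0 : Nat.beq x.1 p = false := by rw [← Bool.not_eq_true, Nat.beq_eq]; exact hx
      rw [h0, cond_false]
      refine List.mem_cons_of_mem _ (ex_mem ⟨k, ?_⟩)
      rcases List.mem_cons.1 h with h1 | h1
      · exact absurd (by rw [← h1]) hx
      · exact h1

open Cfsg.Agent.OrdDiv in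
theorem ex_eq {l : List (ℕ × ℕ)} {n p : ℕ} (hv : valid l n = true) (hp : p.Prime) (hd : p ∣ n) :
    ex p l = n.factorization p ∧ (p, ex p l) ∈ l := by
  obtain ⟨k, hk, -⟩ := exists_pair hv hp (le_refl 1) (by rwa [pow_one])
  have hm := ex_mem ⟨k, hk⟩
  refine ⟨?_, hm⟩
  have hn : n ≠ 0 := (valid_pos hv).ne'
  have h1 := valid_exact hv _ hm
  have h2 : p ^ (ex p l) ∣ n := by
    rw [← valid_prod hv]
    have : p ^ (ex p l) ∈ l.map fun x => x.1 ^ x.2 := List.mem_map.2 ⟨_, hm, rfl⟩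
    exact List.dvd_prod this
  rw [hp.pow_dvd_iff_le_factorization hn] at h1 h2
  simp only at h1
  omega

def hall (p i q j : ℕ) : Bool :=
  anyLt (fun a => dv (q ^ j) (p ^ (a + 1) - 1)) i || anyLt (fun b => dv (p ^ i) (q ^ (b + 1) - 1)) j

def cfour (p i : ℕ) (TP : List ℕ) : Bool :=
  TP.all fun r => Nat.beq r p || anyLt (fun a => dv r (p ^ (a + 1) - 1)) i

/-- `i, t, y` : the `p`-exponents of `|N|`, `|M/N|`, `|G/M|`, and `j, u, z` those of `q` -/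
def na (p i t y q j u z : ℕ) (TP : List ℕ) : Bool :=
  dv (q ^ (u + z)) (p ^ i - 1) && (dv (q ^ z) (p ^ (i + t) - 1) && (dv (p ^ (t + y)) (q ^ j - 1) &&
    (dv (p ^ y) (q ^ (j + u) - 1) && ((Nat.beq i 0 || Nat.beq j 0 || hall p i q j) &&
      ((Nat.beq i 0 || Nat.beq u 0 || cfour p i TP) && (Nat.beq j 0 || Nat.beq t 0 || cfour q j TP))))))

/-- adjacency of `p` and `q` is forced -/
def forced (p ep t q eq u k : ℕ) (TP : List ℕ) : Bool :=
  (Nat.ble 2 k && Nat.blt 0 t && Nat.blt 0 u) ||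
    allLt (fun i => allLt (fun j => !(na p i t (ep - t - i) q j u (eq - u - j) TP)) (eq - u + 1)) (ep - t + 1)

/-- the primes of `l` dividing `o` -/
def primesOf (l : List (ℕ × ℕ)) (o : ℕ) : List ℕ := (l.map fun x => x.1).filter fun p => dv p o

def edge (l : List (ℕ × ℕ)) (o k : ℕ) (TP : List ℕ) (p q : ℕ) : Bool :=
  Nat.blt 0 (ex p l) && forced p (ex p l) (k * val p (ex p l) o) q (ex q l) (k * val q (ex q l) o) k TP

def memb (p : ℕ) : List ℕ → Bool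
  | [] => false
  | x :: l => Nat.beq x p || memb p l

theorem memb_eq {p : ℕ} {l : List ℕ} : memb p l = true ↔ p ∈ l := by
  induction l with
  | nil => simp [memb]
  | cons x l ih =>
    rw [memb, Bool.or_eq_true, ih, Nat.beq_eq, List.mem_cons]
    constructor
    · rintro (h | h)
      · exact Or.inl h.symm
      · exact Or.inr h
    · rintro (h | h)
      · exact Or.inl h.symm
      · exact Or.inr h

/-- follow a tree of forced edges; the empty list if the tree is wrong -/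
def run (F : ℕ → ℕ → Bool) : List (ℕ × ℕ) → List ℕ → List ℕ
  | [], vis => vis
  | x :: tr, vis => cond (memb x.2 vis && F x.1 x.2) (run F tr (x.1 :: vis)) []

theorem run_sound {F : ℕ → ℕ → Bool} {S : ℕ → Prop} (hF : ∀ p q, F p q = true → S q → S p) :
    ∀ (tr : List (ℕ × ℕ)) (vis : List ℕ), (∀ p ∈ vis, S p) → ∀ p ∈ run F tr vis, S p := by
  intro tr
  induction tr with
  | nil => intro vis h; rw [run]; exact h
  | cons x tr ih =>
    intro vis h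
    rw [run]
    cases hc : (memb x.2 vis && F x.1 x.2) with
    | false => rw [cond_false]; intro p hp; exact absurd hp (by simp)
    | true =>
      rw [cond_true]
      rw [Bool.and_eq_true, memb_eq] at hc
      refine ih _ ?_
      intro p hp
      rcases List.mem_cons.1 hp with rfl | hp
      · exact hF _ _ hc.2 (h _ hc.1)
      · exact h p hp

/-- solvable groups -/
def solEdge (l : List (ℕ × ℕ)) (p q : ℕ) : Bool := Nat.blt 0 (ex p l) && !(hall p (ex p l) q (ex q l))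

def solCheck (l : List (ℕ × ℕ)) (tr : List (ℕ × ℕ)) : Bool :=
  let vis := run (solEdge l) tr [2]
  l.all fun x => memb x.1 vis

/-- the check for the order `o`, the power `k`, with a tree; `b = 0`: all primes are connected;
otherwise all primes but `b`, and `b` does not divide the order of `M`. -/
def chk (l : List (ℕ × ℕ)) (o k b : ℕ) (tr : List (ℕ × ℕ)) : Bool :=
  let TP := primesOf l o
  let vis := run (edge l o k TP) tr [2]
  cond (Nat.beq b 0) (l.all fun x => memb x.1 vis)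
    ((l.all fun x => Nat.beq x.1 b || memb x.1 vis) && (Nat.blt 0 (ex b l) && (!(Nat.beq b 2) && (!(dv b o) &&
      allLt (fun i => allLt (fun j => !(na 2 i (k * val 2 (ex 2 l) o) (ex 2 l - k * val 2 (ex 2 l) o - i) b (j + 1) 0
        (ex b l - (j + 1)) TP)) (ex b l)) (ex 2 l - k * val 2 (ex 2 l) o + 1)))))

/-- certificates: `(o, k, b, tree)` -/
def find (certs : List (ℕ × ℕ × ℕ × List (ℕ × ℕ))) (o k : ℕ) : ℕ × List (ℕ × ℕ) :=
  match certs with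
  | [] => (0, [])
  | c :: certs => cond (Nat.beq c.1 o && Nat.beq c.2.1 k) c.2.2 (find certs o k)

def loop (n o : ℕ) (P : ℕ → Bool) : ℕ → ℕ → Bool
  | 0, _ => false
  | f + 1, k => cond (dv (o ^ k) n) (P k && loop n o P f (k + 1)) true

theorem loop_sound {n o : ℕ} {P : ℕ → Bool} : ∀ (f k0 k : ℕ), loop n o P f k0 = true → k0 ≤ k →
    o ^ k ∣ n → P k = true := by
  intro f
  induction f with
  | zero => intro k0 k h; exact absurd h (by simp [loop])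
  | succ f ih =>
    intro k0 k h hk hd
    rw [loop] at h
    have h1 : dv (o ^ k0) n = true := dv_eq.2 ((pow_dvd_pow o hk).trans hd)
    rw [h1, cond_true, Bool.and_eq_true] at h
    rcases Nat.eq_or_lt_of_le hk with h2 | h2
    · exact h2 ▸ h.1
    · exact ih (k0 + 1) k h.2 h2 hd

def chkOrder (l : List (ℕ × ℕ)) (n : ℕ) (certs : List (ℕ × ℕ × ℕ × List (ℕ × ℕ))) (o : ℕ) : Bool :=
  loop n o (fun k => (Nat.beq (o ^ k) n && Nat.beq k 1) ||
    (let c := find certs o k; chk l o k c.1 c.2)) 100 1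

/-! ### soundness -/

open Cfsg.Agent.OrdDiv in
theorem ex_pos {l : List (ℕ × ℕ)} {n p : ℕ} (hv : valid l n = true) (h : 0 < ex p l) :
    p.Prime ∧ p ∣ n := by
  have hm : (p, ex p l) ∈ l := by
    have : ∀ l : List (ℕ × ℕ), 0 < ex p l → (p, ex p l) ∈ l := by
      intro l
      induction l with
      | nil => intro h; exact absurd h (by simp [ex])
      | cons x l ih =>
        intro h
        rw [ex] at h ⊢
        by_cases hx : x.1 = p
        · rw [show Nat.beq x.1 p = true by rw [Nat.beq_eq]; exact hx, cond_true]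
          have : (p, x.2) = x := by rw [← hx]
          rw [this]; exact List.mem_cons_self
        · have h0 : Nat.beq x.1 p = false := by rw [← Bool.not_eq_true, Nat.beq_eq]; exact hx
          rw [h0, cond_false] at h ⊢
          exact List.mem_cons_of_mem _ (ih h)
    exact this l h
  refine ⟨valid_prime hv _ hm, ?_⟩
  refine (dvd_pow_self p h.ne').trans ?_
  rw [← valid_prod hv]
  exact List.dvd_prod (List.mem_map.2 ⟨_, hm, rfl⟩)

/-- the data of a non-solvable group: `N` solvable normal, `M / N` a chief factor of order `o ^ k` -/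
structure Data (G : Type u) [Group G] [Finite G] (N M : Subgroup G) (o k : ℕ) : Prop where
  hN : N.Normal
  hM : M.Normal
  hNM : N ≤ M
  hsol : Group.IsSolvable N
  hmin : ∀ L : Subgroup G, L.Normal → N ≤ L → L ≤ M → L = N ∨ L = M
  ho : o ≠ 0
  hcard : N.relIndex M = o ^ k
  hadj : 2 ≤ k → ∀ p q : ℕ, p.Prime → q.Prime → p ≠ q → p ∣ o → q ∣ o → ¬ NonAdj G p q

theorem Data.pow_dvd {G : Type u} [Group G] [Finite G] {N M : Subgroup G} {o k : ℕ}
    (D : Data G N M o k) : Nat.card G = Nat.card N * o ^ k * M.index := by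
  rw [← D.hcard, mul_assoc, Subgroup.relIndex_mul_index D.hNM, Subgroup.card_mul_index]

theorem Data.fac {G : Type u} [Group G] [Finite G] {N M : Subgroup G} {o k : ℕ}
    (D : Data G N M o k) (p : ℕ) : (Nat.card G).factorization p =
      (Nat.card N).factorization p + k * o.factorization p + M.index.factorization p := by
  have h1 : M.index ≠ 0 := Subgroup.index_ne_zero_of_finite
  have h2 : o ^ k ≠ 0 := pow_ne_zero _ D.ho
  rw [D.pow_dvd, Nat.factorization_mul (mul_ne_zero Nat.card_pos.ne' h2) h1,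
    Nat.factorization_mul Nat.card_pos.ne' h2, Nat.factorization_pow]
  rfl

theorem Data.card_M {G : Type u} [Group G] [Finite G] {N M : Subgroup G} {o k : ℕ}
    (D : Data G N M o k) : Nat.card M = Nat.card N * o ^ k := by
  have h1 := D.pow_dvd
  rw [← Subgroup.card_mul_index M] at h1
  exact Nat.eq_of_mul_eq_mul_right (Nat.pos_of_ne_zero Subgroup.index_ne_zero_of_finite) h1

theorem Data.fac_M {G : Type u} [Group G] [Finite G] {N M : Subgroup G} {o k : ℕ}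
    (D : Data G N M o k) (p : ℕ) : (Nat.card M).factorization p =
      (Nat.card N).factorization p + k * o.factorization p := by
  have h2 : o ^ k ≠ 0 := pow_ne_zero _ D.ho
  rw [D.card_M, Nat.factorization_mul Nat.card_pos.ne' h2, Nat.factorization_pow]
  rfl

theorem Data.fac_index {G : Type u} [Group G] [Finite G] {N M : Subgroup G} {o k : ℕ}
    (D : Data G N M o k) (p : ℕ) : N.index.factorization p =
      k * o.factorization p + M.index.factorization p := by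
  have h1 : M.index ≠ 0 := Subgroup.index_ne_zero_of_finite
  have h2 : o ^ k ≠ 0 := pow_ne_zero _ D.ho
  rw [← Subgroup.relIndex_mul_index D.hNM, D.hcard, Nat.factorization_mul h2 h1, Nat.factorization_pow]
  rfl

/-- **soundness of `na`** -/
theorem na_of_nonAdj {G : Type u} [Group G] [Finite G] {N M : Subgroup G} {o k : ℕ}
    (D : Data G N M o k) {TP : List ℕ} (hTP : ∀ r ∈ TP, r.Prime ∧ r ∣ o) {p q : ℕ} (hp : p.Prime) (hq : q.Prime)
    (hpq : p ≠ q) (h : NonAdj G p q) :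
    na p ((Nat.card N).factorization p) (k * o.factorization p) (M.index.factorization p)
      q ((Nat.card N).factorization q) (k * o.factorization q) (M.index.factorization q) TP = true := by
  have := D.hN
  have := D.hM
  have hN0 : Nat.card N ≠ 0 := Nat.card_pos.ne'
  have dvd_of : ∀ {p m : ℕ}, m.factorization p ≠ 0 → p ∣ m := fun {p m} h =>
    Nat.dvd_of_factorization_pos h
  have four : ∀ {p q : ℕ}, p.Prime → q.Prime → p ≠ q → NonAdj G p q →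
      (Nat.beq ((Nat.card N).factorization p) 0 || Nat.beq (k * o.factorization q) 0 ||
        cfour p ((Nat.card N).factorization p) TP) = true := by
    intro p q hp hq hpq h
    by_cases h1 : (Nat.card N).factorization p = 0
    · rw [show Nat.beq ((Nat.card N).factorization p) 0 = true by rw [Nat.beq_eq]; exact h1]
      rfl
    by_cases h2 : k * o.factorization q = 0
    · rw [show Nat.beq (k * o.factorization q) 0 = true by rw [Nat.beq_eq]; exact h2, Bool.or_true]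
      rfl
    rw [Bool.or_eq_true]
    right
    rw [cfour, List.all_eq_true]
    intro r hr
    obtain ⟨hr1, hr2⟩ := hTP r hr
    rw [Bool.or_eq_true, Nat.beq_eq]
    by_cases hrp : r = p
    · exact Or.inl hrp
    right
    have hk : k ≠ 0 := fun h => h2 (by rw [h, zero_mul])
    have hoq : q ∣ o := dvd_of (fun h => h2 (by rw [h, mul_zero]))
    obtain ⟨a, ha1, ha2, ha3⟩ := chief_dvd hp hq hr1 hpq hrp h N M D.hNM D.hmin (dvd_of h1)
      (by rw [D.hcard]; exact dvd_pow hoq hk) (by rw [D.hcard]; exact dvd_pow hr2 hk)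
    rw [anyLt_eq]
    refine ⟨a - 1, by omega, ?_⟩
    rw [dv_eq, Nat.sub_add_cancel ha1]
    exact ha3
  rw [na]
  simp only [Bool.and_eq_true]
  refine ⟨?_, ?_, ?_, ?_, ?_, ?_, ?_⟩
  · rw [dv_eq, ← D.fac_index]
    exact frattini_dvd hp hq hpq h N
  · rw [dv_eq, ← D.fac_M]
    exact frattini_dvd hp hq hpq h M
  · rw [dv_eq, ← D.fac_index]
    exact frattini_dvd hq hp (Ne.symm hpq) h.symm N
  · rw [dv_eq, ← D.fac_M]
    exact frattini_dvd hq hp (Ne.symm hpq) h.symm M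
  · by_cases h1 : (Nat.card N).factorization p = 0
    · rw [show Nat.beq ((Nat.card N).factorization p) 0 = true by rw [Nat.beq_eq]; exact h1]
      rfl
    by_cases h2 : (Nat.card N).factorization q = 0
    · rw [show Nat.beq ((Nat.card N).factorization q) 0 = true by rw [Nat.beq_eq]; exact h2, Bool.or_true]
      rfl
    rw [Bool.or_eq_true]
    right
    rw [hall, Bool.or_eq_true, anyLt_eq, anyLt_eq]
    rcases solvable_dvd hp hq hpq _ N rfl D.hsol (h.of_injective N.subtype N.subtype_injective)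
      (dvd_of h1) (dvd_of h2) with ⟨a, ha1, ha2, ha3⟩ | ⟨a, ha1, ha2, ha3⟩
    · refine Or.inl ⟨a - 1, by omega, ?_⟩
      rw [dv_eq, Nat.sub_add_cancel ha1]
      exact ha3
    · refine Or.inr ⟨a - 1, by omega, ?_⟩
      rw [dv_eq, Nat.sub_add_cancel ha1]
      exact ha3
  · exact four hp hq hpq h
  · exact four hq hp (Ne.symm hpq) h.symm

/-- **soundness of `forced`** -/
theorem forced_sound {G : Type u} [Group G] [Finite G] {N M : Subgroup G} {o k : ℕ}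
    (D : Data G N M o k) {TP : List ℕ} (hTP : ∀ r ∈ TP, r.Prime ∧ r ∣ o) {p q : ℕ} (hp : p.Prime) (hq : q.Prime)
    (hpq : p ≠ q) (hf : forced p ((Nat.card G).factorization p) (k * o.factorization p)
      q ((Nat.card G).factorization q) (k * o.factorization q) k TP = true) : ¬ NonAdj G p q := by
  intro h
  rw [forced, Bool.or_eq_true] at hf
  rcases hf with hf | hf
  · rw [Bool.and_eq_true, Bool.and_eq_true, Nat.ble_eq, Nat.blt_eq, Nat.blt_eq] at hf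
    obtain ⟨⟨h1, h2⟩, h3⟩ := hf
    have hpo : p ∣ o := Nat.dvd_of_factorization_pos
      (fun h => absurd h2 (by rw [h, mul_zero]; exact lt_irrefl 0))
    have hqo : q ∣ o := Nat.dvd_of_factorization_pos
      (fun h => absurd h3 (by rw [h, mul_zero]; exact lt_irrefl 0))
    exact D.hadj h1 p q hp hq hpq hpo hqo h
  · rw [allLt_eq] at hf
    have hfp := D.fac p
    have hfq := D.fac q
    have h1 := hf ((Nat.card N).factorization p) (by omega)
    rw [allLt_eq] at h1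
    have h2 := h1 ((Nat.card N).factorization q) (by omega)
    have h3 := na_of_nonAdj D hTP hp hq hpq h
    have e1 : (Nat.card G).factorization p - k * o.factorization p - (Nat.card N).factorization p =
        M.index.factorization p := by omega
    have e2 : (Nat.card G).factorization q - k * o.factorization q - (Nat.card N).factorization q =
        M.index.factorization q := by omega
    rw [e1, e2, h3] at h2
    exact absurd h2 (by decide)

theorem primesOf_spec {l : List (ℕ × ℕ)} {n o : ℕ} (hv : Cfsg.Agent.OrdDiv.valid l n = true) :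
    ∀ r ∈ primesOf l o, r.Prime ∧ r ∣ o := by
  intro r hr
  rw [primesOf, List.mem_filter, List.mem_map, dv_eq] at hr
  obtain ⟨⟨x, hx, rfl⟩, h2⟩ := hr
  exact ⟨Cfsg.Agent.OrdDiv.valid_prime hv x hx, h2⟩

/-- the hypothesis on `A` -/
structure Sides (G : Type u) [Group G] (A : Set ℕ) : Prop where
  h1 : ∃ a ∈ A, a.Prime ∧ a ∣ Nat.card G
  h2 : ∃ b ∉ A, b.Prime ∧ b ∣ Nat.card G
  h3 : ∀ a ∈ A, ∀ b ∉ A, a.Prime → b.Prime → a ∣ Nat.card G → b ∣ Nat.card G → ¬ ∃ g : G, orderOf g = a * b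

theorem Sides.nonAdj {G : Type u} [Group G] {A : Set ℕ} (h : Sides G A) {p q : ℕ} (hp : p.Prime) (hq : q.Prime)
    (hpG : p ∣ Nat.card G) (hqG : q ∣ Nat.card G) (hne : ¬ (p ∈ A ↔ q ∈ A)) : NonAdj G p q := by
  by_cases hpA : p ∈ A
  · by_cases hqA : q ∈ A
    · exact absurd (iff_of_true hpA hqA) hne
    · exact h.h3 p hpA q hqA hp hq hpG hqG
  · by_cases hqA : q ∈ A
    · exact NonAdj.symm (h.h3 q hqA p hpA hq hp hqG hpG)
    · exact absurd (iff_of_false hpA hqA) hne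

/-- not all primes are on the same side -/
theorem Sides.not_all {G : Type u} [Group G] {A : Set ℕ} (h : Sides G A)
    (hall : ∀ p : ℕ, p.Prime → p ∣ Nat.card G → (p ∈ A ↔ 2 ∈ A)) : False := by
  obtain ⟨a, ha, hap, haG⟩ := h.h1
  obtain ⟨b, hb, hbp, hbG⟩ := h.h2
  exact hb ((hall b hbp hbG).2 ((hall a hap haG).1 ha))

/-- solvable groups with disconnected prime graph do not pass `solCheck` -/
theorem not_solvable {G : Type u} [Group G] [Finite G] {A : Set ℕ} (h : Sides G A) {l : List (ℕ × ℕ)}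
    (hv : Cfsg.Agent.OrdDiv.valid l (Nat.card G) = true) (h2 : 2 ∣ Nat.card G) {tr : List (ℕ × ℕ)}
    (hs : solCheck l tr = true) : ¬ Group.IsSolvable G := by
  intro hsol
  have hrun : ∀ p ∈ run (solEdge l) tr [2], p.Prime ∧ p ∣ Nat.card G ∧ (p ∈ A ↔ 2 ∈ A) := by
    refine run_sound ?_ tr [2] ?_
    · intro p q hF hq
      rw [solEdge, Bool.and_eq_true, Nat.blt_eq] at hF
      obtain ⟨hp, hpG⟩ := ex_pos hv hF.1
      refine ⟨hp, hpG, ?_⟩
      by_contra hne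
      have hne' : ¬ (p ∈ A ↔ q ∈ A) := fun h => hne (h.trans hq.2.2)
      have hna := h.nonAdj hp hq.1 hpG hq.2.1 hne'
      have hpq : p ≠ q := fun h => hne' (by rw [h])
      have h3 := hF.2
      rw [(ex_eq hv hp hpG).1, (ex_eq hv hq.1 hq.2.1).1] at h3
      have h4 : hall p ((Nat.card G).factorization p) q ((Nat.card G).factorization q) = true := by
        rw [hall, Bool.or_eq_true, anyLt_eq, anyLt_eq]
        rcases solvable_dvd hp hq.1 hpq _ G rfl hsol hna hpG hq.2.1 with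
          ⟨a, ha1, ha2, ha3⟩ | ⟨a, ha1, ha2, ha3⟩
        · refine Or.inl ⟨a - 1, by omega, ?_⟩
          rw [dv_eq, Nat.sub_add_cancel ha1]
          exact ha3
        · refine Or.inr ⟨a - 1, by omega, ?_⟩
          rw [dv_eq, Nat.sub_add_cancel ha1]
          exact ha3
      rw [h4] at h3
      exact absurd h3 (by decide)
    · intro p hp
      rw [List.mem_singleton.1 hp]
      exact ⟨Nat.prime_two, h2, Iff.rfl⟩
  refine h.not_all fun p hp hpG => ?_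
  rw [solCheck, List.all_eq_true] at hs
  have h3 := hs _ (ex_eq hv hp hpG).2
  rw [memb_eq] at h3
  exact (hrun p h3).2.2

/-- **soundness of `chk`** -/
theorem chk_sound {G : Type u} [Group G] [Finite G] {A : Set ℕ} (h : Sides G A) {l : List (ℕ × ℕ)}
    (hv : Cfsg.Agent.OrdDiv.valid l (Nat.card G) = true) (h2 : 2 ∣ Nat.card G) {N M : Subgroup G} {o k : ℕ}
    (D : Data G N M o k) (hk : k ≠ 0) (hns : ¬ Group.IsSolvable M) {b : ℕ} {tr : List (ℕ × ℕ)}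
    (hc : chk l o k b tr = true) : False := by
  have := D.hM
  have hTP := primesOf_spec (o := o) hv
  have hoG : o ∣ Nat.card G := by
    rw [D.pow_dvd]
    exact ((dvd_pow_self o hk).mul_left _).mul_right _
  have hval : ∀ p : ℕ, p.Prime → p ∣ Nat.card G → val p (ex p l) o = o.factorization p := by
    intro p hp hpG
    refine val_eq hp _ _ D.ho ?_
    rw [(ex_eq hv hp hpG).1]
    exact (Nat.factorization_le_iff_dvd D.ho Nat.card_pos.ne').2 hoG p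
  have hrun : ∀ p ∈ run (edge l o k (primesOf l o)) tr [2], p.Prime ∧ p ∣ Nat.card G ∧ (p ∈ A ↔ 2 ∈ A) := by
    refine run_sound ?_ tr [2] ?_
    · intro p q hF hq
      rw [edge, Bool.and_eq_true, Nat.blt_eq] at hF
      obtain ⟨hp, hpG⟩ := ex_pos hv hF.1
      refine ⟨hp, hpG, ?_⟩
      by_contra hne
      have hne' : ¬ (p ∈ A ↔ q ∈ A) := fun h => hne (h.trans hq.2.2)
      have hna := h.nonAdj hp hq.1 hpG hq.2.1 hne'
      have hpq : p ≠ q := fun h => hne' (by rw [h])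
      have h3 := hF.2
      rw [hval p hp hpG, hval q hq.1 hq.2.1, (ex_eq hv hp hpG).1, (ex_eq hv hq.1 hq.2.1).1] at h3
      exact forced_sound D hTP hp hq.1 hpq h3 hna
    · intro p hp
      rw [List.mem_singleton.1 hp]
      exact ⟨Nat.prime_two, h2, Iff.rfl⟩
  rw [chk] at hc
  cases hb : Nat.beq b 0 with
  | true =>
    rw [hb, cond_true, List.all_eq_true] at hc
    refine h.not_all fun p hp hpG => ?_
    have h3 := hc _ (ex_eq hv hp hpG).2
    rw [memb_eq] at h3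
    exact (hrun p h3).2.2
  | false =>
    rw [hb, cond_false] at hc
    simp only [Bool.and_eq_true] at hc
    obtain ⟨hc1, hc2, hc3, hc4, hc5⟩ := hc
    rw [Nat.blt_eq] at hc2
    obtain ⟨hbp, hbG⟩ := ex_pos hv hc2
    have hb2 : b ≠ 2 := by
      rintro rfl
      exact absurd hc3 (by decide)
    have hbo : ¬ b ∣ o := by
      intro hd
      rw [dv_eq.2 hd] at hc4
      exact absurd hc4 (by decide)
    -- all primes but b are on the side of 2
    have hside : ∀ p : ℕ, p.Prime → p ∣ Nat.card G → p ≠ b → (p ∈ A ↔ 2 ∈ A) := by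
      intro p hp hpG hpb
      rw [List.all_eq_true] at hc1
      have h3 := hc1 _ (ex_eq hv hp hpG).2
      rw [Bool.or_eq_true, Nat.beq_eq, memb_eq] at h3
      exact (hrun p (h3.resolve_left hpb)).2.2
    have hbside : ¬ (b ∈ A ↔ 2 ∈ A) := by
      intro hb'
      refine h.not_all fun p hp hpG => ?_
      by_cases hpb : p = b
      · rw [hpb]; exact hb'
      · exact hside p hp hpG hpb
    have hna : ∀ p : ℕ, p.Prime → p ∣ Nat.card G → p ≠ b → NonAdj G b p := by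
      intro p hp hpG hpb
      exact h.nonAdj hbp hp hbG hpG (fun h' => hbside (h'.trans (hside p hp hpG hpb)))
    have hna2 : NonAdj G 2 b := (hna 2 Nat.prime_two h2 (Ne.symm hb2)).symm
    -- b does not divide |N|
    have hob : o.factorization b = 0 := Nat.factorization_eq_zero_of_not_dvd hbo
    have hbN : (Nat.card N).factorization b = 0 := by
      by_contra hne
      rw [allLt_eq] at hc5
      have f2 := D.fac 2
      have fb := D.fac b
      rw [hob, mul_zero] at fb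
      have e2 := (ex_eq hv Nat.prime_two h2).1
      have eb := (ex_eq hv hbp hbG).1
      have h4 := hc5 ((Nat.card N).factorization 2) (by rw [hval 2 Nat.prime_two h2, e2]; omega)
      rw [allLt_eq] at h4
      have h5 := h4 ((Nat.card N).factorization b - 1) (by rw [eb]; omega)
      have h6 := na_of_nonAdj D hTP Nat.prime_two hbp (Ne.symm hb2) hna2
      rw [hob, mul_zero] at h6
      have e3 : ex 2 l - k * val 2 (ex 2 l) o - (Nat.card N).factorization 2 = M.index.factorization 2 := by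
        rw [hval 2 Nat.prime_two h2, e2]; omega
      have e4 : ex b l - ((Nat.card N).factorization b - 1 + 1) = M.index.factorization b := by
        rw [eb]; omega
      have e5 : (Nat.card N).factorization b - 1 + 1 = (Nat.card N).factorization b := by omega
      rw [e3, e4, e5, hval 2 Nat.prime_two h2, h6] at h5
      exact absurd h5 (by decide)
    have hbM : ¬ b ∣ Nat.card M := by
      rw [D.card_M, hbp.dvd_mul]
      rintro (hd | hd)
      · have := hbp.factorization_pos_of_dvd Nat.card_pos.ne' hd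
        omega
      · exact hbo (hbp.dvd_of_dvd_pow hd)
    have hnil := nilpotent_of_isolated M hbp hbG hbM (fun p hp hpM => hna p hp
      (hpM.trans (Subgroup.card_subgroup_dvd_card M)) (fun hpb => hbM (hpb ▸ hpM)))
    exact hns inferInstance

/-- the solvable radical, by maximality -/
theorem exists_radical (G : Type u) [Group G] [Finite G] :
    ∃ N : Subgroup G, N.Normal ∧ Group.IsSolvable N ∧
      ∀ L : Subgroup G, L.Normal → N ≤ L → Group.IsSolvable L → L = N := by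
  have hfin : {N : Subgroup G | N.Normal ∧ Group.IsSolvable N}.Finite := Set.toFinite _
  have hne : {N : Subgroup G | N.Normal ∧ Group.IsSolvable N}.Nonempty :=
    ⟨⊥, inferInstance, inferInstance⟩
  obtain ⟨N, ⟨h1, h2⟩, hmax⟩ := hfin.exists_maximal hne
  exact ⟨N, h1, h2, fun L hL hNL hs => le_antisymm (hmax ⟨hL, hs⟩ hNL) hNL⟩

/-- **The main theorem**: a group of order `n` with disconnected prime graph is simple if the computation
succeeds. -/
theorem simple_of_check {G : Type u} [Group G] [Finite G] {n : ℕ} (hn : Nat.card G = n)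
    {l : List (ℕ × ℕ)} (hv : Cfsg.Agent.OrdDiv.valid l n = true) (h2 : 2 ∣ n) {L : List ℕ}
    (hL : ∀ (T : Type) [Group T] [Finite T], IsSimpleGroup T → (¬ ∀ a b : T, a * b = b * a) →
      Nat.card T ∣ n → Nat.card T ∈ L)
    {tr0 : List (ℕ × ℕ)} (hs : solCheck l tr0 = true) {certs : List (ℕ × ℕ × ℕ × List (ℕ × ℕ))}
    (hc : (L.all fun o => chkOrder l n certs o) = true)
    (hdisc : ∃ A : Set ℕ, (∃ a ∈ A, a.Prime ∧ a ∣ Nat.card G) ∧ (∃ b ∉ A, b.Prime ∧ b ∣ Nat.card G) ∧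
      ∀ a ∈ A, ∀ b ∉ A, a.Prime → b.Prime → a ∣ Nat.card G → b ∣ Nat.card G →
        ¬ ∃ g : G, orderOf g = a * b) :
    IsSimpleGroup G := by
  subst hn
  obtain ⟨A, hA1, hA2, hA3⟩ := hdisc
  have hA : Sides G A := ⟨hA1, hA2, hA3⟩
  have hns := not_solvable hA hv h2 hs
  obtain ⟨N, hN, hNs, hNmax⟩ := exists_radical G
  have hNtop : N ≠ ⊤ := by
    rintro rfl
    exact hns (Group.isSolvable_of_surjective (f := (Subgroup.topEquiv (G := G)).toMonoidHom)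
      (Subgroup.topEquiv (G := G)).surjective)
  obtain ⟨M, hM, hNM, hmin⟩ := exists_min_above N hNtop
  have hMs : ¬ Group.IsSolvable M := fun h => hNM.ne (hNmax M hM hNM.le h).symm
  -- the chief factor
  set Mb : Subgroup (G ⧸ N) := M.map (QuotientGroup.mk' N) with hMb
  have hMbn : Mb.Normal := hM.map _ (QuotientGroup.mk'_surjective N)
  have hker : (QuotientGroup.mk' N).ker = N := QuotientGroup.ker_mk' N
  have hcomap : ∀ L : Subgroup (G ⧸ N), N ≤ L.comap (QuotientGroup.mk' N) := fun L => by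
    conv_lhs => rw [← hker]
    exact Subgroup.ker_le_comap _ _
  have hMcomap : Mb.comap (QuotientGroup.mk' N) = M := by
    rw [hMb, Subgroup.comap_map_eq, hker, sup_eq_left.2 hNM.le]
  have hMb0 : Mb ≠ ⊥ := by
    intro h
    rw [h] at hMcomap
    exact hNM.ne (by rw [← hMcomap, MonoidHom.comap_bot, hker])
  obtain ⟨T, _, m, hT, hm, ⟨e⟩⟩ := Cfsg.Agent.S0721.result Mb hMb0 (by
    intro L hLn hL
    have h1 := hmin (L.comap (QuotientGroup.mk' N)) (hLn.comap _) (hcomap L)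
      (by rw [← hMcomap]; exact Subgroup.comap_mono hL)
    have hinj : Function.Injective (Subgroup.comap (QuotientGroup.mk' N)) :=
      Subgroup.comap_injective (QuotientGroup.mk'_surjective N)
    rcases h1 with h1 | h1
    · left
      apply hinj
      rw [h1, MonoidHom.comap_bot, hker]
    · right
      apply hinj
      rw [h1, hMcomap])
  have hTfin : Finite T := by
    have : Finite (Fin m → T) := Finite.of_equiv _ e.toEquiv
    have : Nonempty (Fin m) := ⟨⟨0, hm⟩⟩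
    exact Finite.of_surjective (fun f : Fin m → T => f ⟨0, hm⟩) (fun t => ⟨fun _ => t, rfl⟩)
  have hcardMb : Nat.card Mb = Nat.card T ^ m := by
    rw [Nat.card_congr e.toEquiv, Nat.card_fun, Nat.card_fin]
  have hrel : N.relIndex M = Nat.card T ^ m := by
    rw [← hcardMb, hMb]
    conv_lhs => rw [← hker]
    exact Subgroup.relIndex_ker _ _
  have hD : Data G N M (Nat.card T) m :=
    { hN := hN
      hM := hM
      hNM := hNM.le
      hsol := hNs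
      hmin := hmin
      ho := Nat.card_pos.ne'
      hcard := hrel
      hadj := by
        intro hm2 p q hp hq hpq hpT hqT h
        refine adj_of_pi (T := T) hm2 (Mb.subtype.comp e.symm.toMonoidHom)
          (Mb.subtype_injective.comp e.symm.injective) hp hq hpq hpT hqT
          (h.of_surjective (QuotientGroup.mk' N) (QuotientGroup.mk'_surjective N)) }
  have hTna : ¬ ∀ a b : T, a * b = b * a := by
    intro hab
    apply hMs
    -- M is an extension of N by the abelian group Mb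
    have hMbs : Group.IsSolvable Mb := by
      have : Group.IsSolvable (Fin m → T) := by
        refine Group.isSolvable_of_comm fun a b => ?_
        funext i
        exact hab _ _
      exact Group.isSolvable_of_isSolvable_injective (f := e.toMonoidHom) e.injective
    let f : N →* M := Subgroup.inclusion hNM.le
    let g : M →* Mb := (QuotientGroup.mk' N).subgroupMap M
    refine Group.isSolvable_of_ker_le_range f g ?_
    intro x hx
    have h1 : (QuotientGroup.mk' N) (x : G) = 1 := congrArg Subtype.val (MonoidHom.mem_ker.1 hx)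
    have h2 : (x : G) ∈ N := by
      have : (x : G) ∈ (QuotientGroup.mk' N).ker := h1
      rwa [hker] at this
    exact ⟨⟨x, h2⟩, Subtype.ext rfl⟩
  have hTG : Nat.card T ∣ Nat.card G := by
    rw [hD.pow_dvd]
    exact ((dvd_pow_self _ (by omega)).mul_left _).mul_right _
  have hTL := hL T hT hTna hTG
  have hTmG : Nat.card T ^ m ∣ Nat.card G := by
    rw [hD.pow_dvd]
    exact (Dvd.intro_left _ rfl).mul_right _
  rw [List.all_eq_true] at hc
  have hc1 := hc _ hTL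
  have hc2 := loop_sound 100 1 m hc1 hm hTmG
  rw [Bool.or_eq_true] at hc2
  rcases hc2 with hc2 | hc2
  · rw [Bool.and_eq_true, Nat.beq_eq, Nat.beq_eq] at hc2
    obtain ⟨h3, h4⟩ := hc2
    have h5 := hD.pow_dvd
    rw [h3] at h5
    have h6 : Nat.card N = 1 ∧ M.index = 1 := by
      have h7 : 0 < Nat.card G := Nat.card_pos
      have h8 : Nat.card N * M.index = 1 := by
        have h9 : Nat.card G * 1 = Nat.card G * (Nat.card N * M.index) := by
          conv_lhs => rw [mul_one, h5]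
          ring
        exact (Nat.eq_of_mul_eq_mul_left h7 h9).symm
      exact ⟨Nat.eq_one_of_mul_eq_one_right h8, Nat.eq_one_of_mul_eq_one_left h8⟩
    have hMtop : M = ⊤ := Subgroup.index_eq_one.1 h6.2
    have hMbtop : Mb = ⊤ := by
      rw [hMb, hMtop]
      exact Subgroup.map_top_of_surjective _ (QuotientGroup.mk'_surjective N)
    have hNbot : N = ⊥ := Subgroup.card_eq_one.1 h6.1
    -- surjection T → G
    have hNt : Nontrivial G := by
      by_contra hnt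
      have : Subsingleton G := not_nontrivial_iff_subsingleton.1 hnt
      exact hns inferInstance
    have hm1 : m = 1 := h4
    subst hm1
    have e1 : (G ⧸ N) ≃* G := by
      subst hNbot
      exact QuotientGroup.quotientBot
    have e2 : Mb ≃* (G ⧸ N) := (MulEquiv.subgroupCongr hMbtop).trans Subgroup.topEquiv
    let f : T →* G := ((e.symm.trans e2).trans e1).toMonoidHom.comp
      (MonoidHom.mulSingle (fun _ : Fin 1 => T) 0)
    have hf : Function.Surjective f := by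
      refine ((e.symm.trans e2).trans e1).surjective.comp ?_
      intro x
      refine ⟨x 0, ?_⟩
      funext i
      have : i = 0 := Subsingleton.elim _ _
      subst this
      simp
    exact IsSimpleGroup.isSimpleGroup_of_surjective f hf
  · exact (chk_sound hA hv h2 hD (by omega) hMs hc2).elim

end Cfsg.Agent.H154.PG
end

-- part: H154/PGCands
section
/-!
# Prime graph: the numerical test with the order engine (helper154)
-/

set_option autoImplicit false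

namespace Cfsg.Agent.H154.PG

open Cfsg Cfsg.Agent.OrdDiv

universe u

/-- the hypothesis "disconnected prime graph" -/
def Disc (G : Type u) [Group G] : Prop :=
  ∃ A : Set ℕ, (∃ a ∈ A, a.Prime ∧ a ∣ Nat.card G) ∧ (∃ b ∉ A, b.Prime ∧ b ∣ Nat.card G) ∧
      ∀ a ∈ A, ∀ b ∉ A, a.Prime → b.Prime → a ∣ Nat.card G → b ∣ Nat.card G →
        ¬ ∃ g : G, orderOf g = a * b

/-- all groups of order `n` with disconnected prime graph are simple -/
def AllSimple (n : ℕ) : Prop :=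
  ∀ (G : Type u) [Group G] [Finite G], Nat.card G = n → Disc G → IsSimpleGroup G

theorem allSimple (T : OrderTable.{0})
    (hS : ∀ (S : Type) [Group S] [Finite S], IsSimpleGroup S → IsKnownSimple' S)
    {n : ℕ} {l : List (ℕ × ℕ)} (hv : valid l n = true) (h2 : 2 ∣ n) {L : List ℕ}
    (hL : ((cands l n).all fun g => memb (ordN g) L) = true)
    {tr0 : List (ℕ × ℕ)} (hs : solCheck l tr0 = true) {certs : List (ℕ × ℕ × ℕ × List (ℕ × ℕ))}
    (hc : (L.all fun o => chkOrder l n certs o) = true) : AllSimple.{u} n := by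
  intro G _ _ hn hdisc
  refine simple_of_check hn hv h2 ?_ hs hc hdisc
  intro S _ _ hSs hna hd
  obtain ⟨g, hg, -, ho⟩ := exists_good T (hS S hSs) hna hv hd
  rw [List.all_eq_true] at hL
  have := hL g hg
  rw [memb_eq] at this
  rw [ho]
  exact this

end Cfsg.Agent.H154.PG
end

-- part: H154/PGDataA
section
/-!
# Prime graph test: the orders of the sporadic groups other than B and M (helper154)

Machine generated certificates: for every order `o` of a nonabelian simple group and every power `o ^ k`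
dividing `n`, a tree of forced adjacencies between the prime divisors of `n`.
-/

set_option autoImplicit false

namespace Cfsg.Agent.H154.PG.DataA

open Cfsg Cfsg.Agent.OrdDiv Cfsg.Agent.H154.PG

universe u

def l_m11 : List (ℕ × ℕ) := [(2, 4), (3, 2), (5, 1), (11, 1)]

def ords_m11 : List ℕ := [60, 360, 660, 7920]

def certs_m11 : List (ℕ × ℕ × ℕ × List (ℕ × ℕ)) := (beta% delta% lq261a5236b9 fun a b c _ _ _ _ _ _ _ _ _ _ _ _ _ _ _ _ _ _ _ _ _ _ _ _ _ _ _ _ _ _ _ _ _ _ _ _ _ _ _ _ _ _ _ _ _ _ =>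
 (b (a 60<|a 1<|a 0 (b (a 3 2)<|b (a 5 3)<|b (a 11 5)<|c))<|
 b (a 360<|a 1<|a 0 (b (a 11 2)<|b (a 3 11)<|b (a 5 11)<|c))<|
 b (a 660<|a 1<|a 0 (b (a 11 2)<|b (a 3 11)<|b (a 5 3)<|c))<|c))

set_option maxRecDepth 100000 in
/-- groups of the order of `M11` -/
theorem all_m11 (T : OrderTable.{0})
    (hS : ∀ (S : Type) [Group S] [Finite S], IsSimpleGroup S → IsKnownSimple' S) :
    AllSimple.{u} 7920 :=
  allSimple T hS (l := l_m11) (by decide +kernel) (by decide) (L := ords_m11) (by decide +kernel)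
    (tr0 := [(3, 2), (11, 2), (5, 3)]) (by decide +kernel) (certs := certs_m11) (by decide +kernel)

def l_m12 : List (ℕ × ℕ) := [(2, 6), (3, 3), (5, 1), (11, 1)]

def ords_m12 : List ℕ := [60, 360, 660, 7920, 95040]

def certs_m12 : List (ℕ × ℕ × ℕ × List (ℕ × ℕ)) := (beta% delta% lq261a5236b9 fun a b c _ _ _ _ _ _ _ _ _ _ _ _ _ _ _ _ _ _ _ _ _ _ _ _ _ _ _ _ _ _ _ _ _ _ _ _ _ _ _ _ _ _ _ _ _ _ =>
 (b (a 60<|a 1<|a 0 (b (a 11 2)<|b (a 5 11)<|b (a 3 5)<|c))<|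
 b (a 360<|a 1<|a 0 (b (a 5 2)<|b (a 3 5)<|b (a 11 5)<|c))<|
 b (a 660<|a 1<|a 0 (b (a 5 2)<|b (a 3 5)<|b (a 11 3)<|c))<|
 b (a 7920<|a 1<|a 0 (b (a 11 2)<|b (a 3 11)<|b (a 5 3)<|c))<|c))

set_option maxRecDepth 100000 in
/-- groups of the order of `M12` -/
theorem all_m12 (T : OrderTable.{0})
    (hS : ∀ (S : Type) [Group S] [Finite S], IsSimpleGroup S → IsKnownSimple' S) :
    AllSimple.{u} 95040 :=
  allSimple T hS (l := l_m12) (by decide +kernel) (by decide) (L := ords_m12) (by decide +kernel)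
    (tr0 := [(3, 2), (11, 2), (5, 3)]) (by decide +kernel) (certs := certs_m12) (by decide +kernel)

def l_m22 : List (ℕ × ℕ) := [(2, 7), (3, 2), (5, 1), (7, 1), (11, 1)]

def ords_m22 : List ℕ := [60, 168, 360, 504, 660, 2520, 7920, 20160, 443520]

noncomputable def certs_m22 : List (ℕ × ℕ × ℕ × List (ℕ × ℕ)) :=
  (by
  refine (?fq9001 : ((pk61l (fun i1 => (_root_.Prod.mk (pk61d (nat_lit 15) 
    (nat_lit 0x9d807bc04ec029403f005a0054003c) i1) (_root_.Prod.mk (nat_lit 1) (_root_.Prod.mk (nat_lit 0) (pk61l (fun i2 => (_root_.Prod.mk (pk61d (nat_lit 4) 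
    (nat_lit 0x753bb37575b37b357b535b73b753b753) i2) (pk61d (nat_lit 4) 
    (nat_lit 0xbbb27752bb3253525332733275325532) i2))) (Nat.mul (nat_lit 4) i1) (Nat.mul (nat_lit 4) (Nat.succ i1)) List.nil))))) (nat_lit 0) (nat_lit 8) List.nil) : List (ℕ × ℕ × ℕ × List (ℕ × ℕ)))
    = ?xq9001 → (List (ℕ × ℕ × ℕ × List (ℕ × ℕ)))) ?hq9001; (case hq9001 => (set_option maxRecDepth 1000000 in set_option simprocs false in conv => lhs; reduce; dsimp only)); intro _; exact ?xq9001 : List (ℕ × ℕ × ℕ × List (ℕ × ℕ)))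

set_option maxRecDepth 100000 in
/-- groups of the order of `M22` -/
theorem all_m22 (T : OrderTable.{0})
    (hS : ∀ (S : Type) [Group S] [Finite S], IsSimpleGroup S → IsKnownSimple' S) :
    AllSimple.{u} 443520 :=
  allSimple T hS (l := l_m22) (by decide +kernel) (by decide) (L := ords_m22) (by decide +kernel)
    (tr0 := [(11, 2), (3, 11), (5, 3), (7, 3)]) (by decide +kernel) (certs := certs_m22) (by decide +kernel)

def l_m23 : List (ℕ × ℕ) := [(2, 7), (3, 2), (5, 1), (7, 1), (11, 1), (23, 1)]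

def ords_m23 : List ℕ := [60, 168, 360, 504, 660, 2520, 6072, 7920, 20160, 443520, 10200960]

noncomputable def certs_m23 : List (ℕ × ℕ × ℕ × List (ℕ × ℕ)) :=
  (by
  refine (?fq9002 : ((pk61l (fun i1 => (_root_.Prod.mk (pk61d (nat_lit 19) 
    (nat_lit 0x3624004ec003de005ee004ec00294003f0005a000540003c) i1) (_root_.Prod.mk (nat_lit 1) (_root_.Prod.mk (nat_lit 0) (pk61l (fun i2 => (_root_.Prod.mk (pk61d (nat_lit 5) 
    (nat_lit 0x16728ee72dc6b5dc6729cb71ace5bac773ac653dd65196eb38eeb3947759ca3) i2) (pk61d (nat_lit 5) 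
    (nat_lit 0x2f7bdc4b58d6238ce512ee35896b18c4528ca228c6311c63188e728c4529462) i2))) (Nat.mul (nat_lit 5) i1) (Nat.mul (nat_lit 5) (Nat.succ i1)) List.nil))))) (nat_lit 0) (nat_lit 10) List.nil) : List (ℕ × ℕ × ℕ × List (ℕ × ℕ)))
    = ?xq9002 → (List (ℕ × ℕ × ℕ × List (ℕ × ℕ)))) ?hq9002; (case hq9002 => (set_option maxRecDepth 1000000 in set_option simprocs false in conv => lhs; reduce; dsimp only)); intro _; exact ?xq9002 : List (ℕ × ℕ × ℕ × List (ℕ × ℕ)))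

set_option maxRecDepth 100000 in
/-- groups of the order of `M23` -/
theorem all_m23 (T : OrderTable.{0})
    (hS : ∀ (S : Type) [Group S] [Finite S], IsSimpleGroup S → IsKnownSimple' S) :
    AllSimple.{u} 10200960 :=
  allSimple T hS (l := l_m23) (by decide +kernel) (by decide) (L := ords_m23) (by decide +kernel)
    (tr0 := [(11, 2), (23, 2), (3, 11), (5, 3), (7, 3)]) (by decide +kernel) (certs := certs_m23) (by decide +kernel)

def l_m24 : List (ℕ × ℕ) := [(2, 10), (3, 3), (5, 1), (7, 1), (11, 1), (23, 1)]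

def ords_m24 : List ℕ := (beta% delta% lq261a5236b9 fun _ b c _ _ _ _ _ _ _ _ _ _ _ _ _ _ _ _ _ _ _ _ _ _ _ _ _ _ _ _ _ _ _ _ _ _ _ _ _ _ _ _ _ _ _ _ _ _ =>
 (b 60<|b 168<|b 360<|b 504<|b 660<|b 2520<|b 6048<|b 6072<|b 7920<|b 20160<|b 95040<|b 443520<|b 10200960<|b 244823040<|c))

noncomputable def certs_m24 : List (ℕ × ℕ × ℕ × List (ℕ × ℕ)) :=
  (by
  refine (?fq9003 : ((pk61l (fun i1 => (_root_.Prod.mk (pk61d (nat_lit 24) 
    (nat_lit 0x9ba78006c480017340004ec0001ef00017b80017a00009d80002940001f80001680000a800003c) i1) (_root_.Prod.mk (nat_lit 1) (_root_.Prod.mk (nat_lit 0) (pk61l (fun i2 => (_root_.Prod.mk (pk61d (nat_lit 5) 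
    (nat_lit 0x7bac653dd632acb738ee32acf73ac65196e759eeb28cf758ca35dce5bace51dd671947759ca3baca7) i2) (pk61d (nat_lit 5) 
    (nat_lit 0x218ca2b946511ce3188a559c4528ca25dceb114631896529445394a239ca3114a5288e739445294e2) i2))) (Nat.mul (nat_lit 5) i1) (Nat.mul (nat_lit 5) (Nat.succ i1)) List.nil))))) (nat_lit 0) (nat_lit 13) List.nil) : List (ℕ × ℕ × ℕ × List (ℕ × ℕ)))
    = ?xq9003 → (List (ℕ × ℕ × ℕ × List (ℕ × ℕ)))) ?hq9003; (case hq9003 => (set_option maxRecDepth 1000000 in set_option simprocs false in conv => lhs; reduce; dsimp only)); intro _; exact ?xq9003 : List (ℕ × ℕ × ℕ × List (ℕ × ℕ)))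

set_option maxRecDepth 100000 in
/-- groups of the order of `M24` -/
theorem all_m24 (T : OrderTable.{0})
    (hS : ∀ (S : Type) [Group S] [Finite S], IsSimpleGroup S → IsKnownSimple' S) :
    AllSimple.{u} 244823040 :=
  allSimple T hS (l := l_m24) (by decide +kernel) (by decide) (L := ords_m24) (by decide +kernel)
    (tr0 := [(3, 2), (23, 2), (5, 3), (7, 3), (11, 3)]) (by decide +kernel) (certs := certs_m24) (by decide +kernel)

def l_j1 : List (ℕ × ℕ) := [(2, 3), (3, 1), (5, 1), (7, 1), (11, 1), (19, 1)]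

def ords_j1 : List ℕ := [60, 168, 660, 175560]

def certs_j1 : List (ℕ × ℕ × ℕ × List (ℕ × ℕ)) := (beta% delta% lq261a5236b9 fun a b c _ _ _ _ _ _ _ _ _ _ _ _ _ _ _ _ _ _ _ _ _ _ _ _ _ _ _ _ _ _ _ _ _ _ _ _ _ _ _ _ _ _ _ _ _ _ =>
 (b (a 60<|a 1<|a 0 (b (a 7 2)<|b (a 3 7)<|b (a 11 3)<|b (a 19 3)<|b (a 5 7)<|c))<|
 b (a 168<|a 1<|a 0 (b (a 5 2)<|b (a 11 2)<|b (a 19 2)<|b (a 3 5)<|b (a 7 5)<|c))<|
 b (a 660<|a 1<|a 0 (b (a 7 2)<|b (a 3 7)<|b (a 19 3)<|b (a 5 7)<|b (a 11 7)<|c))<|c))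

set_option maxRecDepth 100000 in
/-- groups of the order of `J1` -/
theorem all_j1 (T : OrderTable.{0})
    (hS : ∀ (S : Type) [Group S] [Finite S], IsSimpleGroup S → IsKnownSimple' S) :
    AllSimple.{u} 175560 :=
  allSimple T hS (l := l_j1) (by decide +kernel) (by decide) (L := ords_j1) (by decide +kernel)
    (tr0 := [(5, 2), (11, 2), (19, 2), (3, 5), (7, 5)]) (by decide +kernel) (certs := certs_j1) (by decide +kernel)

def l_j2 : List (ℕ × ℕ) := [(2, 7), (3, 3), (5, 2), (7, 1)]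

def ords_j2 : List ℕ := [60, 168, 360, 504, 2520, 6048, 20160, 604800]

noncomputable def certs_j2 : List (ℕ × ℕ × ℕ × List (ℕ × ℕ)) :=
  (by
  refine (?fq9004 : ((pk61l (fun i1 => (_root_.Prod.mk (pk61d (nat_lit 15) 
    (nat_lit 0x9d805e804ec01f802d002a001e003c) i1) (_root_.Prod.mk (pk61d (nat_lit 2) 
    (nat_lit 0x5559) i1) (_root_.Prod.mk (nat_lit 0) (pk61l (fun i2 => (_root_.Prod.mk (pk61d (nat_lit 3) 
    (nat_lit 0x7ededdfebf5defd6fd) i2) (pk61d (nat_lit 3) 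
    (nat_lit 0xb534af55a6d76aa56a) i2))) (Nat.mul (nat_lit 3) i1) (Nat.mul (nat_lit 3) (Nat.succ i1)) List.nil))))) (nat_lit 0) (nat_lit 8) List.nil) : List (ℕ × ℕ × ℕ × List (ℕ × ℕ)))
    = ?xq9004 → (List (ℕ × ℕ × ℕ × List (ℕ × ℕ)))) ?hq9004; (case hq9004 => (set_option maxRecDepth 1000000 in set_option simprocs false in conv => lhs; reduce; dsimp only)); intro _; exact ?xq9004 : List (ℕ × ℕ × ℕ × List (ℕ × ℕ)))

set_option maxRecDepth 100000 in
/-- groups of the order of `J2` -/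
theorem all_j2 (T : OrderTable.{0})
    (hS : ∀ (S : Type) [Group S] [Finite S], IsSimpleGroup S → IsKnownSimple' S) :
    AllSimple.{u} 604800 :=
  allSimple T hS (l := l_j2) (by decide +kernel) (by decide) (L := ords_j2) (by decide +kernel)
    (tr0 := [(3, 2), (5, 2), (7, 3)]) (by decide +kernel) (certs := certs_j2) (by decide +kernel)

def l_j3 : List (ℕ × ℕ) := [(2, 7), (3, 5), (5, 1), (17, 1), (19, 1)]

def ords_j3 : List ℕ := [60, 360, 2448, 3420, 4080, 25920, 50232960]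

noncomputable def certs_j3 : List (ℕ × ℕ × ℕ × List (ℕ × ℕ)) :=
  (by
  refine (?fq9005 : ((pk61l (fun i1 => (_root_.Prod.mk (pk61d (nat_lit 15) 
    (nat_lit 0x32a00ff01ab826400b4003c) i1) (_root_.Prod.mk (nat_lit 1) (_root_.Prod.mk (nat_lit 0) (pk61l (fun i2 => (_root_.Prod.mk (pk61d (nat_lit 5) 
    (nat_lit 0x98cb11c6651ce25196331ccb11ccb1) i2) (pk61d (nat_lit 5) 
    (nat_lit 0x296222cca22c4a28c6622962289622) i2))) (Nat.mul (nat_lit 4) i1) (Nat.mul (nat_lit 4) (Nat.succ i1)) List.nil))))) (nat_lit 0) (nat_lit 6) List.nil) : List (ℕ × ℕ × ℕ × List (ℕ × ℕ)))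
    = ?xq9005 → (List (ℕ × ℕ × ℕ × List (ℕ × ℕ)))) ?hq9005; (case hq9005 => (set_option maxRecDepth 1000000 in set_option simprocs false in conv => lhs; reduce; dsimp only)); intro _; exact ?xq9005 : List (ℕ × ℕ × ℕ × List (ℕ × ℕ)))

set_option maxRecDepth 100000 in
/-- groups of the order of `J3` -/
theorem all_j3 (T : OrderTable.{0})
    (hS : ∀ (S : Type) [Group S] [Finite S], IsSimpleGroup S → IsKnownSimple' S) :
    AllSimple.{u} 50232960 :=
  allSimple T hS (l := l_j3) (by decide +kernel) (by decide) (L := ords_j3) (by decide +kernel)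
    (tr0 := [(3, 2), (17, 2), (19, 2), (5, 17)]) (by decide +kernel) (certs := certs_j3) (by decide +kernel)

def l_j4 : List (ℕ × ℕ) := (beta% delta% lq261a5236b9 fun a b c _ _ _ _ _ _ _ _ _ _ _ _ _ _ _ _ _ _ _ _ _ _ _ _ _ _ _ _ _ _ _ _ _ _ _ _ _ _ _ _ _ _ _ _ _ _ =>
 (b (a 2 21)<|b (a 3 3)<|b (a 5 1)<|b (a 7 1)<|b (a 11 3)<|b (a 23 1)<|b (a 29 1)<|b (a 31 1)<|b (a 37 1)<|b (a 43 1)<|c))

def ords_j4 : List ℕ := (beta% delta% lq261a5236b9 fun _ b c _ _ _ _ _ _ _ _ _ _ _ _ _ _ _ _ _ _ _ _ _ _ _ _ _ _ _ _ _ _ _ _ _ _ _ _ _ _ _ _ _ _ _ _ _ _ =>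
 (b 60<|b 168<|b 360<|b 504<|b 660<|b 2520<|b 6048<|b 6072<|b 7920<|b 12180<|b 14880<|b 20160<|b 32736<|b 39732<|b 95040<|b 443520<|b 9999360<|b 10200960<|b 70915680<|b 244823040<|b 86775571046077562880<|c))

noncomputable def certs_j4 : List (ℕ × ℕ × ℕ × List (ℕ × ℕ)) :=
  (by
  refine (?fq9006 : ((pk61l (fun i1 => (_root_.Prod.mk (pk61d (nat_lit 28) 
    (nat_lit 0xe97b40043a166009ba7800989400006c48000173400009b340007fe00004ec00003a200002f940001ef000017b800017a000009d8000029400001f8000016800000a8000003c) i1) (_root_.Prod.mk (nat_lit 1) (_root_.Prod.mk (nat_lit 0) (pk61l (fun i2 => (_root_.Prod.mk (pk61d (nat_lit 6) 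
    (nat_lit 0x2d71c5ae57dd0e5adf7571cb0c52eb95f5c315d1cb7c7ae57570c52eb95f7431571cb16b95f7571c32c395f7571c5acbae57571df0c52c7ae57dd5c314b0dfae57571472c3747ae57d714bae57dd5c71432c3ae57dd1c55cb1eb95f7571432c7ae57dd5c50cb0eb95f7571c52eb95f7571c50cb7eb95d5c71432eb0e57dd5c714b7c3ae57571c5) i2) (pk61d (nat_lit 6) 
    (nat_lit 0xadf7571c50c2) (pk61d (nat_lit 3) 
    (nat_lit 0x36d2490d249141248aac29124904924a305924921b6db5c6db6c5031249209349261291248149248892492405124920c49244349249025b6d104a4922096db681292490) i2)))) (Nat.mul (nat_lit 9) i1) (Nat.mul (nat_lit 9) (Nat.succ i1)) List.nil))))) (nat_lit 0) (nat_lit 20) List.nil) : List (ℕ × ℕ × ℕ × List (ℕ × ℕ)))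
    = ?xq9006 → (List (ℕ × ℕ × ℕ × List (ℕ × ℕ)))) ?hq9006; (case hq9006 => (set_option maxRecDepth 1000000 in set_option simprocs false in conv => lhs; reduce; dsimp only)); intro _; exact ?xq9006 : List (ℕ × ℕ × ℕ × List (ℕ × ℕ)))

private theorem _root_.Cfsg.Agent.KOd6bd8d0.e0.{ku, kv} {α : Type kv} {M : List α → Sort ku} (φ : ∀ l, M l) {z : M List.nil} {s : ∀ a l, M l → M (List.cons a l)} (h0 : φ List.nil = z) (hs : ∀ a l, φ (List.cons a l) = s a l (φ l)) (l : List α) : φ l = @List.rec α M z s l := List.rec h0 (fun a l ih => (hs a l).trans (congrArg (s a l) ih)) l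
private noncomputable def _root_.Cfsg.Agent.KOd6bd8d0.k1.{ku0} : ((x0 : Sort (ku0+1)) → ((@List.{ku0} @x0) → ((x0 → @Bool) → @Bool))) := @(fun (x0 : Sort (ku0+1)) (x1 : @List.{ku0} @x0) (x2 : (x0 → @Bool)) => @List.rec.{(ku0+1), ku0} @x0 @(fun (x3 : @List.{ku0} @x0) => ((x0 → @Bool) → @Bool)) @(fun (x3 : (x0 → @Bool)) => @Bool.true) @(fun (x3 : x0) (x4 : @List.{ku0} @x0) (x5 : ((x0 → @Bool) → @Bool)) (x6 : (x0 → @Bool)) => @Bool.rec.{1} @(fun (x7 : @Bool) => @Bool) @Bool.false (@x5 @x6) (@x6 @x3)) @x1 @x2)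
private theorem _root_.Cfsg.Agent.KOd6bd8d0.e1.{ku0} : @List.all.{ku0} = @_root_.Cfsg.Agent.KOd6bd8d0.k1.{ku0} := by delta _root_.Cfsg.Agent.KOd6bd8d0.k1; funext a0 a1 a2; refine (congrFun (_root_.Cfsg.Agent.KOd6bd8d0.e0 (fun a1 a2 => @List.all.{ku0} a0 a1 a2) ?_ (fun c0 c1 => ?_) a1) a2 :) <;> (rfl')
private noncomputable def _root_.Cfsg.Agent.KOd6bd8d0.oEq.{ku} (α : Sort ku) (a b : Nat) (f t : α) : α := @Decidable.rec (a = b) (fun _ => α) (fun _ => f) (fun _ => t) (Nat.decEq a b)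
private noncomputable def _root_.Cfsg.Agent.KOd6bd8d0.k2.{ku} (α : Sort ku) (a b : Nat) (f t : α) : α := @Bool.rec (fun _ => α) f t (Nat.beq a b)
private theorem _root_.Cfsg.Agent.KOd6bd8d0.e2.{ku} : @_root_.Cfsg.Agent.KOd6bd8d0.oEq.{ku} = @_root_.Cfsg.Agent.KOd6bd8d0.k2.{ku} := funext fun α => funext fun a => funext fun b => funext fun f => funext fun t => by delta _root_.Cfsg.Agent.KOd6bd8d0.oEq _root_.Cfsg.Agent.KOd6bd8d0.k2; cases h : Nat.beq a b <;> cases Nat.decEq a b <;> rename_i g <;> first | rfl | exact absurd g (Nat.ne_of_beq_eq_false h) | exact absurd (Nat.eq_of_beq_eq_true h) g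
private noncomputable def _root_.Cfsg.Agent.KOd6bd8d0.k3.{ku0} : ((x0 : Sort (ku0+1)) → ((@List.{ku0} @x0) → ((@List.{ku0} @x0) → @List.{ku0} @x0))) := @(fun (x0 : Sort (ku0+1)) (x1 : @List.{ku0} @x0) (x2 : @List.{ku0} @x0) => @List.rec.{(ku0+1), ku0} @x0 @(fun (x3 : @List.{ku0} @x0) => ((@List.{ku0} @x0) → @List.{ku0} @x0)) @(fun (x3 : @List.{ku0} @x0) => x3) @(fun (x3 : x0) (x4 : @List.{ku0} @x0) (x5 : ((@List.{ku0} @x0) → @List.{ku0} @x0)) (x6 : @List.{ku0} @x0) => @List.cons.{ku0} @x0 @x3 (@x5 @x6)) @x1 @x2)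
private theorem _root_.Cfsg.Agent.KOd6bd8d0.e3.{ku0} : @List.append.{ku0} = @_root_.Cfsg.Agent.KOd6bd8d0.k3.{ku0} := by delta _root_.Cfsg.Agent.KOd6bd8d0.k3; funext a0 a1 a2; refine (congrFun (_root_.Cfsg.Agent.KOd6bd8d0.e0 (fun a1 a2 => @List.append.{ku0} a0 a1 a2) ?_ (fun c0 c1 => ?_) a1) a2 :) <;> (rfl')
private noncomputable def _root_.Cfsg.Agent.KOd6bd8d0.k4.{ku0} : ((x0 : Sort (ku0+1)) → ((@List.{ku0} (@List.{ku0} @x0)) → @List.{ku0} @x0)) := @(fun (x0 : Sort (ku0+1)) (x1 : @List.{ku0} (@List.{ku0} @x0)) => @List.rec.{(ku0+1), ku0} (@List.{ku0} @x0) @(fun (x2 : @List.{ku0} (@List.{ku0} @x0)) => @List.{ku0} @x0) (@List.nil.{ku0} @x0) @(fun (x2 : @List.{ku0} @x0) (x3 : @List.{ku0} (@List.{ku0} @x0)) (x4 : @List.{ku0} @x0) => @Cfsg.Agent.KOd6bd8d0.k3.{ku0} @x0 @x2 @x4) @x1)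
private theorem _root_.Cfsg.Agent.KOd6bd8d0.e4.{ku0} : @List.flatten.{ku0} = @_root_.Cfsg.Agent.KOd6bd8d0.k4.{ku0} := by delta _root_.Cfsg.Agent.KOd6bd8d0.k4; rewrite [← Cfsg.Agent.KOd6bd8d0.e3.{ku0}]; funext a0 a1; refine (_root_.Cfsg.Agent.KOd6bd8d0.e0 (fun a1 => @List.flatten.{ku0} a0 a1) ?_ (fun c0 c1 => ?_) a1 :) <;> (rfl')
private noncomputable def _root_.Cfsg.Agent.KOd6bd8d0.k5.{ku0, ku1} : ((x0 : Sort (ku0+1)) → ((x1 : Sort (ku1+1)) → ((x0 → x1) → ((@List.{ku0} @x0) → @List.{ku1} @x1)))) := @(fun (x0 : Sort (ku0+1)) (x1 : Sort (ku1+1)) (x2 : (x0 → x1)) (x3 : @List.{ku0} @x0) => @List.rec.{(ku1+1), ku0} @x0 @(fun (x4 : @List.{ku0} @x0) => @List.{ku1} @x1) (@List.nil.{ku1} @x1) @(fun (x4 : x0) (x5 : @List.{ku0} @x0) (x6 : @List.{ku1} @x1) => @List.cons.{ku1} @x1 (@x2 @x4) @x6) @x3)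
private theorem _root_.Cfsg.Agent.KOd6bd8d0.e5.{ku0, ku1} : @List.map.{ku0, ku1} = @_root_.Cfsg.Agent.KOd6bd8d0.k5.{ku0, ku1} := by delta _root_.Cfsg.Agent.KOd6bd8d0.k5; funext a0 a1 a2 a3; refine (_root_.Cfsg.Agent.KOd6bd8d0.e0 (fun a3 => @List.map.{ku0, ku1} a0 a1 a2 a3) ?_ (fun c0 c1 => ?_) a3 :) <;> (rfl')
private noncomputable def _root_.Cfsg.Agent.KOd6bd8d0.oB.{ku} (α : Sort ku) (c : Bool) (f t : α) : α := @Decidable.rec (c = true) (fun _ => α) (fun _ => f) (fun _ => t) (instDecidableEqBool c true)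
private noncomputable def _root_.Cfsg.Agent.KOd6bd8d0.k6.{ku} (α : Sort ku) (c : Bool) (f t : α) : α := @Bool.rec (fun _ => α) f t c
private theorem _root_.Cfsg.Agent.KOd6bd8d0.e6.{ku} : @_root_.Cfsg.Agent.KOd6bd8d0.oB.{ku} = @_root_.Cfsg.Agent.KOd6bd8d0.k6.{ku} := funext fun α => funext fun c => funext fun f => funext fun t => by cases c <;> rfl
private noncomputable def _root_.Cfsg.Agent.KOd6bd8d0.k7.{ku0} : ((x0 : Sort (ku0+1)) → ((x0 → @Bool) → ((@List.{ku0} @x0) → @List.{ku0} @x0))) := @(fun (x0 : Sort (ku0+1)) (x1 : (x0 → @Bool)) (x2 : @List.{ku0} @x0) => @List.rec.{(ku0+1), ku0} @x0 @(fun (x3 : @List.{ku0} @x0) => @List.{ku0} @x0) (@List.nil.{ku0} @x0) @(fun (x3 : x0) (x4 : @List.{ku0} @x0) (x5 : @List.{ku0} @x0) => @Bool.rec.{(ku0+1)} @(fun (x6 : @Bool) => @List.{ku0} @x0) @x5 (@List.cons.{ku0} @x0 @x3 @x5) (@x1 @x3)) @x2)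
private theorem _root_.Cfsg.Agent.KOd6bd8d0.e7.{ku0} : @List.filter.{ku0} = @_root_.Cfsg.Agent.KOd6bd8d0.k7.{ku0} := by delta _root_.Cfsg.Agent.KOd6bd8d0.k7; funext a0 a1 a2; refine (_root_.Cfsg.Agent.KOd6bd8d0.e0 (fun a2 => @List.filter.{ku0} a0 a1 a2) ?_ (fun c0 c1 => ?_) a2 :) <;> (rfl')
private theorem _root_.Cfsg.Agent.KOd6bd8d0.e8.{ku} {M : Nat → Sort ku} (φ : ∀ n, M n) {z : M Nat.zero} {s : ∀ n, M n → M (Nat.succ n)} (h0 : φ Nat.zero = z) (hs : ∀ n, φ (Nat.succ n) = s n (φ n)) (n : Nat) : φ n = @Nat.rec M z s n := Nat.rec h0 (fun n ih => (hs n).trans (congrArg (s n) ih)) n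
private noncomputable def _root_.Cfsg.Agent.KOd6bd8d0.k9 : (@Nat → @Nat) := @(fun (x0 : @Nat) => @Nat.rec.{1} @(fun (x1 : @Nat) => @Nat) (nat_lit 1) @(fun (x1 : @Nat) (x2 : @Nat) => @Nat.mul (@Nat.succ @x1) @x2) @x0)
private theorem _root_.Cfsg.Agent.KOd6bd8d0.e9 : @Nat.factorial = @_root_.Cfsg.Agent.KOd6bd8d0.k9 := by delta _root_.Cfsg.Agent.KOd6bd8d0.k9; funext a0; refine (_root_.Cfsg.Agent.KOd6bd8d0.e8 (fun a0 => @Nat.factorial a0) ?_ (fun c0 => ?_) a0 :) <;> (rfl')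
private noncomputable def _root_.Cfsg.Agent.KOd6bd8d0.k10 : (@Nat → ((@List.{0} @Nat) → @List.{0} @Nat)) := @(fun (x0 : @Nat) (x1 : @List.{0} @Nat) => @Nat.rec.{1} @(fun (x2 : @Nat) => ((@List.{0} @Nat) → @List.{0} @Nat)) @(fun (x2 : @List.{0} @Nat) => x2) @(fun (x2 : @Nat) (x3 : ((@List.{0} @Nat) → @List.{0} @Nat)) (x4 : @List.{0} @Nat) => @x3 (@List.cons.{0} @Nat @x2 @x4)) @x0 @x1)
private theorem _root_.Cfsg.Agent.KOd6bd8d0.e10 : @List.range.loop = @_root_.Cfsg.Agent.KOd6bd8d0.k10 := by delta _root_.Cfsg.Agent.KOd6bd8d0.k10; funext a0 a1; refine (congrFun (_root_.Cfsg.Agent.KOd6bd8d0.e8 (fun a0 a1 => @List.range.loop a0 a1) ?_ (fun c0 => ?_) a0) a1 :) <;> (rfl')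
private noncomputable def _root_.Cfsg.Agent.KOd6bd8d0.k11 : (by first | exact type_of% @Cfsg.Agent.OrdDiv.candAlt | exact Unit : Sort _) := by first | (refine @Subtype.val _ (fun g => @Cfsg.Agent.OrdDiv.candAlt = @g) (@Subtype.mk _ _ (@(fun (x0 : @List.{0} (@Prod.{0, 0} @Nat @Nat)) (x1 : @Nat) => @Cfsg.Agent.KOd6bd8d0.k4.{0} @Nat (@Cfsg.Agent.KOd6bd8d0.k5.{0, 0} (@Prod.{0, 0} @Nat @Nat) (@List.{0} @Nat) @(fun (x2 : @Prod.{0, 0} @Nat @Nat) => @Cfsg.Agent.KOd6bd8d0.k6.{1} (@List.{0} @Nat) (@Nat.beq (@Prod.fst.{0, 0} @Nat @Nat @x2) (nat_lit 2)) (@List.nil.{0} @Nat) (@Cfsg.Agent.KOd6bd8d0.k7.{0} @Nat @(fun (x3 : @Nat) => @Bool.rec.{1} @(fun (x4 : @Bool) => @Bool) @Bool.false (@Cfsg.Agent.KOd6bd8d0.k2.{1} @Bool (@Nat.mod (@Nat.mul (nat_lit 2) @x1) (@Cfsg.Agent.KOd6bd8d0.k9 @x3)) (nat_lit 0) @Bool.false @Bool.true) (@Nat.ble (nat_lit 5) @x3)) (@Cfsg.Agent.KOd6bd8d0.k10 (@Nat.add (@Nat.mul (nat_lit 2)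 (@Prod.snd.{0, 0} @Nat @Nat @x2)) (nat_lit 4)) (@List.nil.{0} @Nat)))) @x0))) ?_); rewrite [← Cfsg.Agent.KOd6bd8d0.e4.{0}, ← Cfsg.Agent.KOd6bd8d0.e5.{0, 0}, ← Cfsg.Agent.KOd6bd8d0.e6.{1}, ← Cfsg.Agent.KOd6bd8d0.e7.{0}, ← Cfsg.Agent.KOd6bd8d0.e2.{1}, ← Cfsg.Agent.KOd6bd8d0.e9, ← Cfsg.Agent.KOd6bd8d0.e10]; rfl') | exact @Cfsg.Agent.OrdDiv.candAlt | exact ()
private theorem _root_.Cfsg.Agent.KOd6bd8d0.e11 : (by first | exact @Cfsg.Agent.OrdDiv.candAlt = @_root_.Cfsg.Agent.KOd6bd8d0.k11 | exact True : Prop) := by first | (delta _root_.Cfsg.Agent.KOd6bd8d0.k11; exact @Subtype.property _ (fun g => @Cfsg.Agent.OrdDiv.candAlt = @g) _) | rfl | trivial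
private noncomputable def _root_.Cfsg.Agent.KOd6bd8d0.k12 : ((@List.{0} (@Prod.{0, 0} @Nat @Nat)) → ((@Nat → @Nat) → (@Nat → @List.{0} (@Prod.{0, 0} @Nat @Nat)))) := @Cfsg.Agent.OrdDiv.box
private theorem _root_.Cfsg.Agent.KOd6bd8d0.e12 : @Cfsg.Agent.OrdDiv.box = @_root_.Cfsg.Agent.KOd6bd8d0.k12 := rfl
private noncomputable def _root_.Cfsg.Agent.KOd6bd8d0.k13 : (by first | exact type_of% @Cfsg.Agent.OrdDiv.cand | exact Unit : Sort _) := by first | (refine @Subtype.val _ (fun g => @Cfsg.Agent.OrdDiv.cand = @g) (@Subtype.mk _ _ (@(fun (x0 : @List.{0} (@Prod.{0, 0} @Nat @Nat)) (x1 : @Nat) (x2 : @Cfsg.Agent.OrdDiv.Fam) => @Cfsg.Agent.KOd6bd8d0.k7.{0} (@Prod.{0, 0} @Nat @Nat) @(fun (x3 : @Prod.{0, 0} @Nat @Nat) => @Bool.rec.{1} @(fun (x4 : @Bool) => @Bool) @Bool.false (@Cfsg.Agent.KOd6bd8d0.k2.{1} @Bool (@Nat.mod (@Nat.mul (@Cfsg.Agent.OrdDiv.Fam.den @x2 (@Prod.fst.{0, 0} @Nat @Nat @x3) (@Prod.snd.{0,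 0} @Nat @Nat @x3)) @x1) (@Cfsg.Agent.OrdDiv.Fam.num @x2 (@Prod.fst.{0, 0} @Nat @Nat @x3) (@Prod.snd.{0, 0} @Nat @Nat @x3))) (nat_lit 0) @Bool.false @Bool.true) (@Cfsg.Agent.OrdDiv.Fam.ok @x2 (@Prod.fst.{0, 0} @Nat @Nat @x3) (@Prod.snd.{0, 0} @Nat @Nat @x3))) (@Cfsg.Agent.KOd6bd8d0.k12 @x0 (@Cfsg.Agent.OrdDiv.Fam.e @x2) (@Cfsg.Agent.OrdDiv.Fam.lo @x2)))) ?_); rewrite [← Cfsg.Agent.KOd6bd8d0.e7.{0}, ← Cfsg.Agent.KOd6bd8d0.e2.{1}, ← Cfsg.Agent.KOd6bd8d0.e12]; (try delta Cfsg.Agent.OrdDiv.cand); (try generalize @Cfsg.Agent.OrdDiv.box = g0); rfl') | exact @Cfsg.Agent.OrdDiv.cand | exact ()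
private theorem _root_.Cfsg.Agent.KOd6bd8d0.e13 : (by first | exact @Cfsg.Agent.OrdDiv.cand = @_root_.Cfsg.Agent.KOd6bd8d0.k13 | exact True : Prop) := by first | (delta _root_.Cfsg.Agent.KOd6bd8d0.k13; exact @Subtype.property _ (fun g => @Cfsg.Agent.OrdDiv.cand = @g) _) | rfl | trivial
private noncomputable def _root_.Cfsg.Agent.KOd6bd8d0.k14 : (by first | exact type_of% @Cfsg.Agent.OrdDiv.cands | exact Unit : Sort _) := by first | (refine @Subtype.val _ (fun g => @Cfsg.Agent.OrdDiv.cands = @g) (@Subtype.mk _ _ (@(fun (x0 : @List.{0} (@Prod.{0, 0} @Nat @Nat)) (x1 : @Nat) => @Cfsg.Agent.KOd6bd8d0.k4.{0} @Cfsg.Agent.OrdDiv.Grp (@List.cons.{0} (@List.{0} @Cfsg.Agent.OrdDiv.Grp) (@Cfsg.Agent.KOd6bd8d0.k5.{0, 0} @Nat @Cfsg.Agent.OrdDiv.Grp @Cfsg.Agent.OrdDiv.Grp.alt (@Cfsg.Agent.KOd6bd8d0.k11 @x0 @x1)) (@List.cons.{0} (@List.{0} @Cfsg.Agent.OrdDiv.Grp) (@Cfsg.Agent.KOd6bd8d0.k5.{0, 0} (@Prod.{0, 0}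 @Nat @Nat) @Cfsg.Agent.OrdDiv.Grp @(fun (x2 : @Prod.{0, 0} @Nat @Nat) => @Cfsg.Agent.OrdDiv.Grp.psl (@Prod.fst.{0, 0} @Nat @Nat @x2) (@Prod.snd.{0, 0} @Nat @Nat @x2)) (@Cfsg.Agent.KOd6bd8d0.k13 @x0 @x1 @Cfsg.Agent.OrdDiv.fPSL)) (@List.cons.{0} (@List.{0} @Cfsg.Agent.OrdDiv.Grp) (@Cfsg.Agent.KOd6bd8d0.k5.{0, 0} (@Prod.{0, 0} @Nat @Nat) @Cfsg.Agent.OrdDiv.Grp @(fun (x2 : @Prod.{0, 0} @Nat @Nat) => @Cfsg.Agent.OrdDiv.Grp.psp (@Prod.fst.{0, 0} @Nat @Nat @x2) (@Prod.snd.{0, 0} @Nat @Nat @x2)) (@Cfsg.Agent.KOd6bd8d0.k13 @x0 @x1 @Cfsg.Agent.OrdDiv.fPSp)) (@List.cons.{0} (@List.{0} @Cfsg.Agent.OrdDiv.Grp) (@Cfsg.Agent.KOd6bd8d0.k5.{0, 0} (@Prod.{0, 0} @Nat @Nat) @Cfsg.Agent.OrdDiv.Grp @(fun (x2 : @Prod.{0, 0} @Nat @Nat) => @Cfsg.Agent.OrdDiv.Grp.psu (@Prod.fst.{0, 0} @Nat @Nat @x2) (@Prod.snd.{0, 0} @Nat @Nat @x2)) (@Cfsg.Agent.KOd6bd8d0.k13 @x0 @x1 @Cfsg.Agent.OrdDiv.fPSU)) (@List.cons.{0} (@List.{0}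 @Cfsg.Agent.OrdDiv.Grp) (@Cfsg.Agent.KOd6bd8d0.k5.{0, 0} (@Prod.{0, 0} @Nat @Nat) @Cfsg.Agent.OrdDiv.Grp @(fun (x2 : @Prod.{0, 0} @Nat @Nat) => @Cfsg.Agent.OrdDiv.Grp.oodd (@Prod.fst.{0, 0} @Nat @Nat @x2) (@Prod.snd.{0, 0} @Nat @Nat @x2)) (@Cfsg.Agent.KOd6bd8d0.k13 @x0 @x1 @Cfsg.Agent.OrdDiv.fOOdd)) (@List.cons.{0} (@List.{0} @Cfsg.Agent.OrdDiv.Grp) (@Cfsg.Agent.KOd6bd8d0.k5.{0, 0} (@Prod.{0, 0} @Nat @Nat) @Cfsg.Agent.OrdDiv.Grp @(fun (x2 : @Prod.{0, 0} @Nat @Nat) => @Cfsg.Agent.OrdDiv.Grp.oplus (@Prod.fst.{0, 0} @Nat @Nat @x2) (@Prod.snd.{0, 0} @Nat @Nat @x2)) (@Cfsg.Agent.KOd6bd8d0.k13 @x0 @x1 @Cfsg.Agent.OrdDiv.fOPlus)) (@List.cons.{0} (@List.{0} @Cfsg.Agent.OrdDiv.Grp) (@Cfsg.Agent.KOd6bd8d0.k5.{0, 0} (@Prod.{0, 0} @Nat @Nat) @Cfsg.Agent.OrdDiv.Grp @(fun (x2 : @Prod.{0, 0} @Nat @Nat) => @Cfsg.Agent.OrdDiv.Grp.ominus (@Prod.fst.{0, 0} @Nat @Nat @x2) (@Prod.snd.{0, 0} @Nat @Nat @x2)) (@Cfsg.Agent.KOd6bd8d0.k13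 @x0 @x1 @Cfsg.Agent.OrdDiv.fOMinus)) (@List.cons.{0} (@List.{0} @Cfsg.Agent.OrdDiv.Grp) (@Cfsg.Agent.KOd6bd8d0.k5.{0, 0} (@Prod.{0, 0} @Nat @Nat) @Cfsg.Agent.OrdDiv.Grp @(fun (x2 : @Prod.{0, 0} @Nat @Nat) => @Cfsg.Agent.OrdDiv.Grp.g2 (@Prod.snd.{0, 0} @Nat @Nat @x2)) (@Cfsg.Agent.KOd6bd8d0.k13 @x0 @x1 @Cfsg.Agent.OrdDiv.fG2)) (@List.cons.{0} (@List.{0} @Cfsg.Agent.OrdDiv.Grp) (@Cfsg.Agent.KOd6bd8d0.k5.{0, 0} (@Prod.{0, 0} @Nat @Nat) @Cfsg.Agent.OrdDiv.Grp @(fun (x2 : @Prod.{0, 0} @Nat @Nat) => @Cfsg.Agent.OrdDiv.Grp.f4 (@Prod.snd.{0, 0} @Nat @Nat @x2)) (@Cfsg.Agent.KOd6bd8d0.k13 @x0 @x1 @Cfsg.Agent.OrdDiv.fF4)) (@List.cons.{0} (@List.{0} @Cfsg.Agent.OrdDiv.Grp) (@Cfsg.Agent.KOd6bd8d0.k5.{0, 0} (@Prod.{0, 0} @Nat @Nat) @Cfsg.Agent.OrdDiv.Grp @(fun (x2 : @Prod.{0, 0} @Nat @Nat) => @Cfsg.Agent.OrdDiv.Grp.e6 (@Prod.snd.{0, 0} @Nat @Nat @x2)) (@Cfsg.Agent.KOd6bd8d0.k13 @x0 @x1 @Cfsg.Agent.OrdDiv.fE6))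 (@List.cons.{0} (@List.{0} @Cfsg.Agent.OrdDiv.Grp) (@Cfsg.Agent.KOd6bd8d0.k5.{0, 0} (@Prod.{0, 0} @Nat @Nat) @Cfsg.Agent.OrdDiv.Grp @(fun (x2 : @Prod.{0, 0} @Nat @Nat) => @Cfsg.Agent.OrdDiv.Grp.e7 (@Prod.snd.{0, 0} @Nat @Nat @x2)) (@Cfsg.Agent.KOd6bd8d0.k13 @x0 @x1 @Cfsg.Agent.OrdDiv.fE7)) (@List.cons.{0} (@List.{0} @Cfsg.Agent.OrdDiv.Grp) (@Cfsg.Agent.KOd6bd8d0.k5.{0, 0} (@Prod.{0, 0} @Nat @Nat) @Cfsg.Agent.OrdDiv.Grp @(fun (x2 : @Prod.{0, 0} @Nat @Nat) => @Cfsg.Agent.OrdDiv.Grp.e8 (@Prod.snd.{0, 0} @Nat @Nat @x2)) (@Cfsg.Agent.KOd6bd8d0.k13 @x0 @x1 @Cfsg.Agent.OrdDiv.fE8)) (@List.cons.{0} (@List.{0} @Cfsg.Agent.OrdDiv.Grp) (@Cfsg.Agent.KOd6bd8d0.k5.{0, 0} (@Prod.{0, 0} @Nat @Nat) @Cfsg.Agent.OrdDiv.Grp @(fun (x2 : @Prod.{0, 0} @Nat @Nat) => @Cfsg.Agent.OrdDiv.Grp.te6 (@Prod.snd.{0, 0} @Nat @Nat @x2)) (@Cfsg.Agent.KOd6bd8d0.k13 @x0 @x1 @Cfsg.Agent.OrdDiv.fTE6)) (@List.cons.{0} (@List.{0} @Cfsg.Agent.OrdDiv.Grp)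 (@Cfsg.Agent.KOd6bd8d0.k5.{0, 0} (@Prod.{0, 0} @Nat @Nat) @Cfsg.Agent.OrdDiv.Grp @(fun (x2 : @Prod.{0, 0} @Nat @Nat) => @Cfsg.Agent.OrdDiv.Grp.td4 (@Prod.snd.{0, 0} @Nat @Nat @x2)) (@Cfsg.Agent.KOd6bd8d0.k13 @x0 @x1 @Cfsg.Agent.OrdDiv.fTD4)) (@List.cons.{0} (@List.{0} @Cfsg.Agent.OrdDiv.Grp) (@Cfsg.Agent.KOd6bd8d0.k5.{0, 0} (@Prod.{0, 0} @Nat @Nat) @Cfsg.Agent.OrdDiv.Grp @(fun (x2 : @Prod.{0, 0} @Nat @Nat) => @Cfsg.Agent.OrdDiv.Grp.sz (@Prod.snd.{0, 0} @Nat @Nat @x2)) (@Cfsg.Agent.KOd6bd8d0.k13 @x0 @x1 @Cfsg.Agent.OrdDiv.fSz)) (@List.cons.{0} (@List.{0} @Cfsg.Agent.OrdDiv.Grp) (@Cfsg.Agent.KOd6bd8d0.k5.{0, 0} (@Prod.{0, 0} @Nat @Nat) @Cfsg.Agent.OrdDiv.Grp @(fun (x2 : @Prod.{0, 0} @Nat @Nat) => @Cfsg.Agent.OrdDiv.Grp.ree (@Prod.snd.{0, 0} @Nat @Nat @x2)) (@Cfsg.Agent.KOd6bd8d0.k13 @x0 @x1 @Cfsg.Agent.OrdDiv.fRee)) (@List.cons.{0} (@List.{0} @Cfsg.Agent.OrdDiv.Grp) (@Cfsg.Agent.KOd6bd8d0.k5.{0,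 0} (@Prod.{0, 0} @Nat @Nat) @Cfsg.Agent.OrdDiv.Grp @(fun (x2 : @Prod.{0, 0} @Nat @Nat) => @Cfsg.Agent.OrdDiv.Grp.tf4 (@Prod.snd.{0, 0} @Nat @Nat @x2)) (@Cfsg.Agent.KOd6bd8d0.k13 @x0 @x1 @Cfsg.Agent.OrdDiv.fTF4)) (@List.cons.{0} (@List.{0} @Cfsg.Agent.OrdDiv.Grp) (@Cfsg.Agent.KOd6bd8d0.k5.{0, 0} (@Prod.{0, 0} @Cfsg.Agent.OrdDiv.Grp @Nat) @Cfsg.Agent.OrdDiv.Grp @(fun (x2 : @Prod.{0, 0} @Cfsg.Agent.OrdDiv.Grp @Nat) => @Prod.fst.{0, 0} @Cfsg.Agent.OrdDiv.Grp @Nat @x2) (@Cfsg.Agent.KOd6bd8d0.k7.{0} (@Prod.{0, 0} @Cfsg.Agent.OrdDiv.Grp @Nat) @(fun (x2 : @Prod.{0, 0} @Cfsg.Agent.OrdDiv.Grp @Nat) => @Cfsg.Agent.KOd6bd8d0.k2.{1} @Bool (@Nat.mod @x1 (@Prod.snd.{0, 0} @Cfsg.Agent.OrdDiv.Grp @Nat @x2)) (nat_lit 0) @Bool.false @Bool.true) @Cfsg.Agent.OrdDiv.spor)) (@List.nil.{0} (@List.{0} @Cfsg.Agent.OrdDiv.Grp)))))))))))))))))))))) ?_); rewrite [← Cfsg.Agent.KOd6bd8d0.e4.{0}, ← Cfsg.Agent.KOd6bd8d0.e5.{0,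 0}, ← Cfsg.Agent.KOd6bd8d0.e11, ← Cfsg.Agent.KOd6bd8d0.e13, ← Cfsg.Agent.KOd6bd8d0.e7.{0}, ← Cfsg.Agent.KOd6bd8d0.e2.{1}]; (try delta Cfsg.Agent.OrdDiv.cands); (try generalize @Cfsg.Agent.OrdDiv.candAlt = g0); (try generalize @Cfsg.Agent.OrdDiv.cand = g1); (try generalize @Cfsg.Agent.OrdDiv.fPSL = g2); (try generalize @Cfsg.Agent.OrdDiv.fPSp = g3); (try generalize @Cfsg.Agent.OrdDiv.fPSU = g4); (try generalize @Cfsg.Agent.OrdDiv.fOOdd = g5); (try generalize @Cfsg.Agent.OrdDiv.fOPlus = g6); (try generalize @Cfsg.Agent.OrdDiv.fOMinus = g7); (try generalize @Cfsg.Agent.OrdDiv.fG2 = g8); (try generalize @Cfsg.Agent.OrdDiv.fF4 = g9); (try generalize @Cfsg.Agent.OrdDiv.fE6 = g10); (try generalize @Cfsg.Agent.OrdDiv.fE7 = g11); (try generalize @Cfsg.Agent.OrdDiv.fE8 = g12); (try generalize @Cfsg.Agent.OrdDiv.fTE6 = g13); (try generalize @Cfsg.Agent.OrdDiv.fTD4 = g14); (try generalize @Cfsg.Agent.OrdDiv.fSz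 = g15); (try generalize @Cfsg.Agent.OrdDiv.fRee = g16); (try generalize @Cfsg.Agent.OrdDiv.fTF4 = g17); (try generalize @Cfsg.Agent.OrdDiv.spor = g18); rfl') | exact @Cfsg.Agent.OrdDiv.cands | exact ()
private theorem _root_.Cfsg.Agent.KOd6bd8d0.e14 : (by first | exact @Cfsg.Agent.OrdDiv.cands = @_root_.Cfsg.Agent.KOd6bd8d0.k14 | exact True : Prop) := by first | (delta _root_.Cfsg.Agent.KOd6bd8d0.k14; exact @Subtype.property _ (fun g => @Cfsg.Agent.OrdDiv.cands = @g) _) | rfl | trivial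
private noncomputable def _root_.Cfsg.Agent.KOd6bd8d0.k15 : (by first | exact type_of% @Cfsg.Agent.H154.PG.memb | exact Unit : Sort _) := by first | (refine @Subtype.val _ (fun g => @Cfsg.Agent.H154.PG.memb = @g) (@Subtype.mk _ _ (@(fun (x0 : @Nat) (x1 : @List.{0} @Nat) => @List.rec.{1, 0} @Nat @(fun (x2 : @List.{0} @Nat) => @Bool) @Bool.false @(fun (x2 : @Nat) (x3 : @List.{0} @Nat) (x4 : @Bool) => @Bool.rec.{1} @(fun (x5 : @Bool) => @Bool) @x4 @Bool.true (@Nat.beq @x2 @x0)) @x1)) ?_); funext a0 a1; refine (_root_.Cfsg.Agent.KOd6bd8d0.e0 (fun a1 => @Cfsg.Agent.H154.PG.memb a0 a1) ?_ (fun c0 c1 => ?_) a1 :) <;> (rfl')) | exact @Cfsg.Agent.H154.PG.memb | exact ()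
private theorem _root_.Cfsg.Agent.KOd6bd8d0.e15 : (by first | exact @Cfsg.Agent.H154.PG.memb = @_root_.Cfsg.Agent.KOd6bd8d0.k15 | exact True : Prop) := by first | (delta _root_.Cfsg.Agent.KOd6bd8d0.k15; exact @Subtype.property _ (fun g => @Cfsg.Agent.H154.PG.memb = @g) _) | rfl | trivial
private noncomputable def _root_.Cfsg.Agent.KOd6bd8d0.k16.{ku0} : ((x0 : Sort (ku0+1)) → ((x0 → @Bool) → ((@List.{ku0} @x0) → @Option.{ku0} @x0))) := @(fun (x0 : Sort (ku0+1)) (x1 : (x0 → @Bool)) (x2 : @List.{ku0} @x0) => @List.rec.{(ku0+1), ku0} @x0 @(fun (x3 : @List.{ku0} @x0) => @Option.{ku0} @x0) (@Option.none.{ku0} @x0) @(fun (x3 : x0) (x4 : @List.{ku0} @x0) (x5 : @Option.{ku0} @x0) => @Bool.rec.{(ku0+1)} @(fun (x6 : @Bool) => @Option.{ku0} @x0) @x5 (@Option.some.{ku0} @x0 @x3) (@x1 @x3)) @x2)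
private theorem _root_.Cfsg.Agent.KOd6bd8d0.e16.{ku0} : @List.find?.{ku0} = @_root_.Cfsg.Agent.KOd6bd8d0.k16.{ku0} := by delta _root_.Cfsg.Agent.KOd6bd8d0.k16; funext a0 a1 a2; refine (_root_.Cfsg.Agent.KOd6bd8d0.e0 (fun a2 => @List.find?.{ku0} a0 a1 a2) ?_ (fun c0 c1 => ?_) a2 :) <;> (rfl')
private noncomputable def _root_.Cfsg.Agent.KOd6bd8d0.k17 : (by first | exact type_of% @Cfsg.Agent.OrdDiv.ordN | exact Unit : Sort _) := by first | (refine @Subtype.val _ (fun g => @Cfsg.Agent.OrdDiv.ordN = @g) (@Subtype.mk _ _ (@(fun (x0 : @Cfsg.Agent.OrdDiv.Grp) => @Cfsg.Agent.OrdDiv.Grp.rec.{1} @(fun (x1 : @Cfsg.Agent.OrdDiv.Grp) => (((@Nat.hasNotBit (nat_lit 131071) (@Cfsg.Agent.OrdDiv.Grp.ctorIdx @x1)) → @Nat) → @Nat)) @(fun (x1 : @Nat) (x2 : ((@Nat.hasNotBit (nat_lit 131071) (@Cfsg.Agent.OrdDiv.Grp.ctorIdx (@Cfsg.Agent.OrdDiv.Grp.alt @x1))) → @Nat)) => @Nat.div (@Cfsg.Agent.KOd6bd8d0.k9 @x1) (nat_lit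 2)) @(fun (x1 : @Nat) (x2 : @Nat) (x3 : ((@Nat.hasNotBit (nat_lit 131071) (@Cfsg.Agent.OrdDiv.Grp.ctorIdx (@Cfsg.Agent.OrdDiv.Grp.psl @x1 @x2))) → @Nat)) => @Nat.div (@Cfsg.Agent.OrdDiv.Fam.num @Cfsg.Agent.OrdDiv.fPSL @x1 @x2) (@Cfsg.Agent.OrdDiv.Fam.den @Cfsg.Agent.OrdDiv.fPSL @x1 @x2)) @(fun (x1 : @Nat) (x2 : @Nat) (x3 : ((@Nat.hasNotBit (nat_lit 131071) (@Cfsg.Agent.OrdDiv.Grp.ctorIdx (@Cfsg.Agent.OrdDiv.Grp.psp @x1 @x2))) → @Nat)) => @Nat.div (@Cfsg.Agent.OrdDiv.Fam.num @Cfsg.Agent.OrdDiv.fPSp @x1 @x2) (@Cfsg.Agent.OrdDiv.Fam.den @Cfsg.Agent.OrdDiv.fPSp @x1 @x2)) @(fun (x1 : @Nat) (x2 : @Nat) (x3 : ((@Nat.hasNotBit (nat_lit 131071) (@Cfsg.Agent.OrdDiv.Grp.ctorIdx (@Cfsg.Agent.OrdDiv.Grp.psu @x1 @x2))) → @Nat)) => @Nat.div (@Cfsg.Agent.OrdDiv.Fam.num @Cfsg.Agent.OrdDiv.fPSU @x1 @x2) (@Cfsg.Agent.OrdDiv.Fam.den @Cfsg.Agent.OrdDiv.fPSU @x1 @x2)) @(fun (x1 : @Nat) (x2 : @Nat) (x3 : ((@Nat.hasNotBit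 (nat_lit 131071) (@Cfsg.Agent.OrdDiv.Grp.ctorIdx (@Cfsg.Agent.OrdDiv.Grp.oodd @x1 @x2))) → @Nat)) => @Nat.div (@Cfsg.Agent.OrdDiv.Fam.num @Cfsg.Agent.OrdDiv.fOOdd @x1 @x2) (@Cfsg.Agent.OrdDiv.Fam.den @Cfsg.Agent.OrdDiv.fOOdd @x1 @x2)) @(fun (x1 : @Nat) (x2 : @Nat) (x3 : ((@Nat.hasNotBit (nat_lit 131071) (@Cfsg.Agent.OrdDiv.Grp.ctorIdx (@Cfsg.Agent.OrdDiv.Grp.oplus @x1 @x2))) → @Nat)) => @Nat.div (@Cfsg.Agent.OrdDiv.Fam.num @Cfsg.Agent.OrdDiv.fOPlus @x1 @x2) (@Cfsg.Agent.OrdDiv.Fam.den @Cfsg.Agent.OrdDiv.fOPlus @x1 @x2)) @(fun (x1 : @Nat) (x2 : @Nat) (x3 : ((@Nat.hasNotBit (nat_lit 131071) (@Cfsg.Agent.OrdDiv.Grp.ctorIdx (@Cfsg.Agent.OrdDiv.Grp.ominus @x1 @x2))) → @Nat)) => @Nat.div (@Cfsg.Agent.OrdDiv.Fam.num @Cfsg.Agent.OrdDiv.fOMinus @x1 @x2) (@Cfsg.Agent.OrdDiv.Fam.den @Cfsg.Agent.OrdDiv.fOMinus @x1 @x2)) @(fun (x1 : @Nat) (x2 : ((@Nat.hasNotBit (nat_lit 131071) (@Cfsg.Agent.OrdDiv.Grp.ctorIdx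 (@Cfsg.Agent.OrdDiv.Grp.g2 @x1))) → @Nat)) => @Nat.div (@Cfsg.Agent.OrdDiv.Fam.num @Cfsg.Agent.OrdDiv.fG2 (nat_lit 0) @x1) (@Cfsg.Agent.OrdDiv.Fam.den @Cfsg.Agent.OrdDiv.fG2 (nat_lit 0) @x1)) @(fun (x1 : @Nat) (x2 : ((@Nat.hasNotBit (nat_lit 131071) (@Cfsg.Agent.OrdDiv.Grp.ctorIdx (@Cfsg.Agent.OrdDiv.Grp.f4 @x1))) → @Nat)) => @Nat.div (@Cfsg.Agent.OrdDiv.Fam.num @Cfsg.Agent.OrdDiv.fF4 (nat_lit 0) @x1) (@Cfsg.Agent.OrdDiv.Fam.den @Cfsg.Agent.OrdDiv.fF4 (nat_lit 0) @x1)) @(fun (x1 : @Nat) (x2 : ((@Nat.hasNotBit (nat_lit 131071) (@Cfsg.Agent.OrdDiv.Grp.ctorIdx (@Cfsg.Agent.OrdDiv.Grp.e6 @x1))) → @Nat)) => @Nat.div (@Cfsg.Agent.OrdDiv.Fam.num @Cfsg.Agent.OrdDiv.fE6 (nat_lit 0) @x1) (@Cfsg.Agent.OrdDiv.Fam.den @Cfsg.Agent.OrdDiv.fE6 (nat_lit 0) @x1)) @(fun (x1 : @Nat) (x2 : ((@Nat.hasNotBit (nat_lit 131071) (@Cfsg.Agent.OrdDiv.Grp.ctorIdx (@Cfsg.Agent.OrdDiv.Grp.e7 @x1))) → @Nat)) => @Nat.div (@Cfsg.Agent.OrdDiv.Fam.num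 @Cfsg.Agent.OrdDiv.fE7 (nat_lit 0) @x1) (@Cfsg.Agent.OrdDiv.Fam.den @Cfsg.Agent.OrdDiv.fE7 (nat_lit 0) @x1)) @(fun (x1 : @Nat) (x2 : ((@Nat.hasNotBit (nat_lit 131071) (@Cfsg.Agent.OrdDiv.Grp.ctorIdx (@Cfsg.Agent.OrdDiv.Grp.e8 @x1))) → @Nat)) => @Nat.div (@Cfsg.Agent.OrdDiv.Fam.num @Cfsg.Agent.OrdDiv.fE8 (nat_lit 0) @x1) (@Cfsg.Agent.OrdDiv.Fam.den @Cfsg.Agent.OrdDiv.fE8 (nat_lit 0) @x1)) @(fun (x1 : @Nat) (x2 : ((@Nat.hasNotBit (nat_lit 131071) (@Cfsg.Agent.OrdDiv.Grp.ctorIdx (@Cfsg.Agent.OrdDiv.Grp.te6 @x1))) → @Nat)) => @Nat.div (@Cfsg.Agent.OrdDiv.Fam.num @Cfsg.Agent.OrdDiv.fTE6 (nat_lit 0) @x1) (@Cfsg.Agent.OrdDiv.Fam.den @Cfsg.Agent.OrdDiv.fTE6 (nat_lit 0) @x1)) @(fun (x1 : @Nat) (x2 : ((@Nat.hasNotBit (nat_lit 131071) (@Cfsg.Agent.OrdDiv.Grp.ctorIdx (@Cfsg.Agent.OrdDiv.Grp.td4 @x1))) → @Nat)) => @Nat.div (@Cfsg.Agent.OrdDiv.Fam.num @Cfsg.Agent.OrdDiv.fTD4 (nat_lit 0) @x1) (@Cfsg.Agent.OrdDiv.Fam.den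 @Cfsg.Agent.OrdDiv.fTD4 (nat_lit 0) @x1)) @(fun (x1 : @Nat) (x2 : ((@Nat.hasNotBit (nat_lit 131071) (@Cfsg.Agent.OrdDiv.Grp.ctorIdx (@Cfsg.Agent.OrdDiv.Grp.sz @x1))) → @Nat)) => @Nat.div (@Cfsg.Agent.OrdDiv.Fam.num @Cfsg.Agent.OrdDiv.fSz (nat_lit 0) @x1) (@Cfsg.Agent.OrdDiv.Fam.den @Cfsg.Agent.OrdDiv.fSz (nat_lit 0) @x1)) @(fun (x1 : @Nat) (x2 : ((@Nat.hasNotBit (nat_lit 131071) (@Cfsg.Agent.OrdDiv.Grp.ctorIdx (@Cfsg.Agent.OrdDiv.Grp.ree @x1))) → @Nat)) => @Nat.div (@Cfsg.Agent.OrdDiv.Fam.num @Cfsg.Agent.OrdDiv.fRee (nat_lit 0) @x1) (@Cfsg.Agent.OrdDiv.Fam.den @Cfsg.Agent.OrdDiv.fRee (nat_lit 0) @x1)) @(fun (x1 : @Nat) (x2 : ((@Nat.hasNotBit (nat_lit 131071) (@Cfsg.Agent.OrdDiv.Grp.ctorIdx (@Cfsg.Agent.OrdDiv.Grp.tf4 @x1))) → @Nat)) => @Nat.div (@Cfsg.Agent.OrdDiv.Fam.num @Cfsg.Agent.OrdDiv.fTF4 (nat_lit 0) @x1) (@Cfsg.Agent.OrdDiv.Fam.den @Cfsg.Agent.OrdDiv.fTF4 (nat_lit 0) @x1)) @(fun (x1 :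 ((@Nat.hasNotBit (nat_lit 131071) (@Cfsg.Agent.OrdDiv.Grp.ctorIdx @Cfsg.Agent.OrdDiv.Grp.tits)) → @Nat)) => @x1 (@Nat.ne_of_beq_eq_false (@Nat.land (@OfNat.ofNat.{0} @Nat (nat_lit 1) (@instOfNatNat (nat_lit 1))) (@Nat.shiftRight (nat_lit 131071) (nat_lit 17))) (@OfNat.ofNat.{0} @Nat (nat_lit 1) (@instOfNatNat (nat_lit 1))) (@Eq.refl.{1} @Bool @Bool.false))) @(fun (x1 : ((@Nat.hasNotBit (nat_lit 131071) (@Cfsg.Agent.OrdDiv.Grp.ctorIdx @Cfsg.Agent.OrdDiv.Grp.m11)) → @Nat)) => @x1 (@Nat.ne_of_beq_eq_false (@Nat.land (@OfNat.ofNat.{0} @Nat (nat_lit 1) (@instOfNatNat (nat_lit 1))) (@Nat.shiftRight (nat_lit 131071) (nat_lit 18))) (@OfNat.ofNat.{0} @Nat (nat_lit 1) (@instOfNatNat (nat_lit 1))) (@Eq.refl.{1} @Bool @Bool.false))) @(fun (x1 : ((@Nat.hasNotBit (nat_lit 131071) (@Cfsg.Agent.OrdDiv.Grp.ctorIdx @Cfsg.Agent.OrdDiv.Grp.m12)) → @Nat)) => @x1 (@Nat.ne_of_beq_eq_false (@Nat.land (@OfNat.ofNat.{0}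 @Nat (nat_lit 1) (@instOfNatNat (nat_lit 1))) (@Nat.shiftRight (nat_lit 131071) (nat_lit 19))) (@OfNat.ofNat.{0} @Nat (nat_lit 1) (@instOfNatNat (nat_lit 1))) (@Eq.refl.{1} @Bool @Bool.false))) @(fun (x1 : ((@Nat.hasNotBit (nat_lit 131071) (@Cfsg.Agent.OrdDiv.Grp.ctorIdx @Cfsg.Agent.OrdDiv.Grp.m22)) → @Nat)) => @x1 (@Nat.ne_of_beq_eq_false (@Nat.land (@OfNat.ofNat.{0} @Nat (nat_lit 1) (@instOfNatNat (nat_lit 1))) (@Nat.shiftRight (nat_lit 131071) (nat_lit 20))) (@OfNat.ofNat.{0} @Nat (nat_lit 1) (@instOfNatNat (nat_lit 1))) (@Eq.refl.{1} @Bool @Bool.false))) @(fun (x1 : ((@Nat.hasNotBit (nat_lit 131071) (@Cfsg.Agent.OrdDiv.Grp.ctorIdx @Cfsg.Agent.OrdDiv.Grp.m23)) → @Nat)) => @x1 (@Nat.ne_of_beq_eq_false (@Nat.land (@OfNat.ofNat.{0} @Nat (nat_lit 1) (@instOfNatNat (nat_lit 1))) (@Nat.shiftRight (nat_lit 131071) (nat_lit 21))) (@OfNat.ofNat.{0} @Nat (nat_lit 1) (@instOfNatNat (nat_lit 1))) (@Eq.refl.{1}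 @Bool @Bool.false))) @(fun (x1 : ((@Nat.hasNotBit (nat_lit 131071) (@Cfsg.Agent.OrdDiv.Grp.ctorIdx @Cfsg.Agent.OrdDiv.Grp.m24)) → @Nat)) => @x1 (@Nat.ne_of_beq_eq_false (@Nat.land (@OfNat.ofNat.{0} @Nat (nat_lit 1) (@instOfNatNat (nat_lit 1))) (@Nat.shiftRight (nat_lit 131071) (nat_lit 22))) (@OfNat.ofNat.{0} @Nat (nat_lit 1) (@instOfNatNat (nat_lit 1))) (@Eq.refl.{1} @Bool @Bool.false))) @(fun (x1 : ((@Nat.hasNotBit (nat_lit 131071) (@Cfsg.Agent.OrdDiv.Grp.ctorIdx @Cfsg.Agent.OrdDiv.Grp.j1)) → @Nat)) => @x1 (@Nat.ne_of_beq_eq_false (@Nat.land (@OfNat.ofNat.{0} @Nat (nat_lit 1) (@instOfNatNat (nat_lit 1))) (@Nat.shiftRight (nat_lit 131071) (nat_lit 23))) (@OfNat.ofNat.{0} @Nat (nat_lit 1) (@instOfNatNat (nat_lit 1))) (@Eq.refl.{1} @Bool @Bool.false))) @(fun (x1 : ((@Nat.hasNotBit (nat_lit 131071) (@Cfsg.Agent.OrdDiv.Grp.ctorIdx @Cfsg.Agent.OrdDiv.Grp.j2)) → @Nat)) => @x1 (@Nat.ne_of_beq_eq_false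 (@Nat.land (@OfNat.ofNat.{0} @Nat (nat_lit 1) (@instOfNatNat (nat_lit 1))) (@Nat.shiftRight (nat_lit 131071) (nat_lit 24))) (@OfNat.ofNat.{0} @Nat (nat_lit 1) (@instOfNatNat (nat_lit 1))) (@Eq.refl.{1} @Bool @Bool.false))) @(fun (x1 : ((@Nat.hasNotBit (nat_lit 131071) (@Cfsg.Agent.OrdDiv.Grp.ctorIdx @Cfsg.Agent.OrdDiv.Grp.j3)) → @Nat)) => @x1 (@Nat.ne_of_beq_eq_false (@Nat.land (@OfNat.ofNat.{0} @Nat (nat_lit 1) (@instOfNatNat (nat_lit 1))) (@Nat.shiftRight (nat_lit 131071) (nat_lit 25))) (@OfNat.ofNat.{0} @Nat (nat_lit 1) (@instOfNatNat (nat_lit 1))) (@Eq.refl.{1} @Bool @Bool.false))) @(fun (x1 : ((@Nat.hasNotBit (nat_lit 131071) (@Cfsg.Agent.OrdDiv.Grp.ctorIdx @Cfsg.Agent.OrdDiv.Grp.j4)) → @Nat)) => @x1 (@Nat.ne_of_beq_eq_false (@Nat.land (@OfNat.ofNat.{0} @Nat (nat_lit 1) (@instOfNatNat (nat_lit 1))) (@Nat.shiftRight (nat_lit 131071) (nat_lit 26))) (@OfNat.ofNat.{0} @Nat (nat_lit 1) (@instOfNatNat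 (nat_lit 1))) (@Eq.refl.{1} @Bool @Bool.false))) @(fun (x1 : ((@Nat.hasNotBit (nat_lit 131071) (@Cfsg.Agent.OrdDiv.Grp.ctorIdx @Cfsg.Agent.OrdDiv.Grp.co1)) → @Nat)) => @x1 (@Nat.ne_of_beq_eq_false (@Nat.land (@OfNat.ofNat.{0} @Nat (nat_lit 1) (@instOfNatNat (nat_lit 1))) (@Nat.shiftRight (nat_lit 131071) (nat_lit 27))) (@OfNat.ofNat.{0} @Nat (nat_lit 1) (@instOfNatNat (nat_lit 1))) (@Eq.refl.{1} @Bool @Bool.false))) @(fun (x1 : ((@Nat.hasNotBit (nat_lit 131071) (@Cfsg.Agent.OrdDiv.Grp.ctorIdx @Cfsg.Agent.OrdDiv.Grp.co2)) → @Nat)) => @x1 (@Nat.ne_of_beq_eq_false (@Nat.land (@OfNat.ofNat.{0} @Nat (nat_lit 1) (@instOfNatNat (nat_lit 1))) (@Nat.shiftRight (nat_lit 131071) (nat_lit 28))) (@OfNat.ofNat.{0} @Nat (nat_lit 1) (@instOfNatNat (nat_lit 1))) (@Eq.refl.{1} @Bool @Bool.false))) @(fun (x1 : ((@Nat.hasNotBit (nat_lit 131071) (@Cfsg.Agent.OrdDiv.Grp.ctorIdx @Cfsg.Agent.OrdDiv.Grp.co3)) → @Nat))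 => @x1 (@Nat.ne_of_beq_eq_false (@Nat.land (@OfNat.ofNat.{0} @Nat (nat_lit 1) (@instOfNatNat (nat_lit 1))) (@Nat.shiftRight (nat_lit 131071) (nat_lit 29))) (@OfNat.ofNat.{0} @Nat (nat_lit 1) (@instOfNatNat (nat_lit 1))) (@Eq.refl.{1} @Bool @Bool.false))) @(fun (x1 : ((@Nat.hasNotBit (nat_lit 131071) (@Cfsg.Agent.OrdDiv.Grp.ctorIdx @Cfsg.Agent.OrdDiv.Grp.mcl)) → @Nat)) => @x1 (@Nat.ne_of_beq_eq_false (@Nat.land (@OfNat.ofNat.{0} @Nat (nat_lit 1) (@instOfNatNat (nat_lit 1))) (@Nat.shiftRight (nat_lit 131071) (nat_lit 30))) (@OfNat.ofNat.{0} @Nat (nat_lit 1) (@instOfNatNat (nat_lit 1))) (@Eq.refl.{1} @Bool @Bool.false))) @(fun (x1 : ((@Nat.hasNotBit (nat_lit 131071) (@Cfsg.Agent.OrdDiv.Grp.ctorIdx @Cfsg.Agent.OrdDiv.Grp.hs)) → @Nat)) => @x1 (@Nat.ne_of_beq_eq_false (@Nat.land (@OfNat.ofNat.{0} @Nat (nat_lit 1) (@instOfNatNat (nat_lit 1))) (@Nat.shiftRight (nat_lit 131071) (nat_lit 31))) (@OfNat.ofNat.{0}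 @Nat (nat_lit 1) (@instOfNatNat (nat_lit 1))) (@Eq.refl.{1} @Bool @Bool.false))) @(fun (x1 : ((@Nat.hasNotBit (nat_lit 131071) (@Cfsg.Agent.OrdDiv.Grp.ctorIdx @Cfsg.Agent.OrdDiv.Grp.suz)) → @Nat)) => @x1 (@Nat.ne_of_beq_eq_false (@Nat.land (@OfNat.ofNat.{0} @Nat (nat_lit 1) (@instOfNatNat (nat_lit 1))) (@Nat.shiftRight (nat_lit 131071) (nat_lit 32))) (@OfNat.ofNat.{0} @Nat (nat_lit 1) (@instOfNatNat (nat_lit 1))) (@Eq.refl.{1} @Bool @Bool.false))) @(fun (x1 : ((@Nat.hasNotBit (nat_lit 131071) (@Cfsg.Agent.OrdDiv.Grp.ctorIdx @Cfsg.Agent.OrdDiv.Grp.he)) → @Nat)) => @x1 (@Nat.ne_of_beq_eq_false (@Nat.land (@OfNat.ofNat.{0} @Nat (nat_lit 1) (@instOfNatNat (nat_lit 1))) (@Nat.shiftRight (nat_lit 131071) (nat_lit 33))) (@OfNat.ofNat.{0} @Nat (nat_lit 1) (@instOfNatNat (nat_lit 1))) (@Eq.refl.{1} @Bool @Bool.false))) @(fun (x1 : ((@Nat.hasNotBit (nat_lit 131071) (@Cfsg.Agent.OrdDiv.Grp.ctorIdx @Cfsg.Agent.OrdDiv.Grp.ru))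 → @Nat)) => @x1 (@Nat.ne_of_beq_eq_false (@Nat.land (@OfNat.ofNat.{0} @Nat (nat_lit 1) (@instOfNatNat (nat_lit 1))) (@Nat.shiftRight (nat_lit 131071) (nat_lit 34))) (@OfNat.ofNat.{0} @Nat (nat_lit 1) (@instOfNatNat (nat_lit 1))) (@Eq.refl.{1} @Bool @Bool.false))) @(fun (x1 : ((@Nat.hasNotBit (nat_lit 131071) (@Cfsg.Agent.OrdDiv.Grp.ctorIdx @Cfsg.Agent.OrdDiv.Grp.on)) → @Nat)) => @x1 (@Nat.ne_of_beq_eq_false (@Nat.land (@OfNat.ofNat.{0} @Nat (nat_lit 1) (@instOfNatNat (nat_lit 1))) (@Nat.shiftRight (nat_lit 131071) (nat_lit 35))) (@OfNat.ofNat.{0} @Nat (nat_lit 1) (@instOfNatNat (nat_lit 1))) (@Eq.refl.{1} @Bool @Bool.false))) @(fun (x1 : ((@Nat.hasNotBit (nat_lit 131071) (@Cfsg.Agent.OrdDiv.Grp.ctorIdx @Cfsg.Agent.OrdDiv.Grp.ly)) → @Nat)) => @x1 (@Nat.ne_of_beq_eq_false (@Nat.land (@OfNat.ofNat.{0} @Nat (nat_lit 1) (@instOfNatNat (nat_lit 1))) (@Nat.shiftRight (nat_lit 131071) (nat_lit 36))) (@OfNat.ofNat.{0}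 @Nat (nat_lit 1) (@instOfNatNat (nat_lit 1))) (@Eq.refl.{1} @Bool @Bool.false))) @(fun (x1 : ((@Nat.hasNotBit (nat_lit 131071) (@Cfsg.Agent.OrdDiv.Grp.ctorIdx @Cfsg.Agent.OrdDiv.Grp.fi22)) → @Nat)) => @x1 (@Nat.ne_of_beq_eq_false (@Nat.land (@OfNat.ofNat.{0} @Nat (nat_lit 1) (@instOfNatNat (nat_lit 1))) (@Nat.shiftRight (nat_lit 131071) (nat_lit 37))) (@OfNat.ofNat.{0} @Nat (nat_lit 1) (@instOfNatNat (nat_lit 1))) (@Eq.refl.{1} @Bool @Bool.false))) @(fun (x1 : ((@Nat.hasNotBit (nat_lit 131071) (@Cfsg.Agent.OrdDiv.Grp.ctorIdx @Cfsg.Agent.OrdDiv.Grp.fi23)) → @Nat)) => @x1 (@Nat.ne_of_beq_eq_false (@Nat.land (@OfNat.ofNat.{0} @Nat (nat_lit 1) (@instOfNatNat (nat_lit 1))) (@Nat.shiftRight (nat_lit 131071) (nat_lit 38))) (@OfNat.ofNat.{0} @Nat (nat_lit 1) (@instOfNatNat (nat_lit 1))) (@Eq.refl.{1} @Bool @Bool.false))) @(fun (x1 : ((@Nat.hasNotBit (nat_lit 131071) (@Cfsg.Agent.OrdDiv.Grp.ctorIdx @Cfsg.Agent.OrdDiv.Grp.fi24))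 → @Nat)) => @x1 (@Nat.ne_of_beq_eq_false (@Nat.land (@OfNat.ofNat.{0} @Nat (nat_lit 1) (@instOfNatNat (nat_lit 1))) (@Nat.shiftRight (nat_lit 131071) (nat_lit 39))) (@OfNat.ofNat.{0} @Nat (nat_lit 1) (@instOfNatNat (nat_lit 1))) (@Eq.refl.{1} @Bool @Bool.false))) @(fun (x1 : ((@Nat.hasNotBit (nat_lit 131071) (@Cfsg.Agent.OrdDiv.Grp.ctorIdx @Cfsg.Agent.OrdDiv.Grp.hn)) → @Nat)) => @x1 (@Nat.ne_of_beq_eq_false (@Nat.land (@OfNat.ofNat.{0} @Nat (nat_lit 1) (@instOfNatNat (nat_lit 1))) (@Nat.shiftRight (nat_lit 131071) (nat_lit 40))) (@OfNat.ofNat.{0} @Nat (nat_lit 1) (@instOfNatNat (nat_lit 1))) (@Eq.refl.{1} @Bool @Bool.false))) @(fun (x1 : ((@Nat.hasNotBit (nat_lit 131071) (@Cfsg.Agent.OrdDiv.Grp.ctorIdx @Cfsg.Agent.OrdDiv.Grp.th)) → @Nat)) => @x1 (@Nat.ne_of_beq_eq_false (@Nat.land (@OfNat.ofNat.{0} @Nat (nat_lit 1) (@instOfNatNat (nat_lit 1))) (@Nat.shiftRight (nat_lit 131071) (nat_lit 41))) (@OfNat.ofNat.{0}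 @Nat (nat_lit 1) (@instOfNatNat (nat_lit 1))) (@Eq.refl.{1} @Bool @Bool.false))) @(fun (x1 : ((@Nat.hasNotBit (nat_lit 131071) (@Cfsg.Agent.OrdDiv.Grp.ctorIdx @Cfsg.Agent.OrdDiv.Grp.b)) → @Nat)) => @x1 (@Nat.ne_of_beq_eq_false (@Nat.land (@OfNat.ofNat.{0} @Nat (nat_lit 1) (@instOfNatNat (nat_lit 1))) (@Nat.shiftRight (nat_lit 131071) (nat_lit 42))) (@OfNat.ofNat.{0} @Nat (nat_lit 1) (@instOfNatNat (nat_lit 1))) (@Eq.refl.{1} @Bool @Bool.false))) @(fun (x1 : ((@Nat.hasNotBit (nat_lit 131071) (@Cfsg.Agent.OrdDiv.Grp.ctorIdx @Cfsg.Agent.OrdDiv.Grp.m)) → @Nat)) => @x1 (@Nat.ne_of_beq_eq_false (@Nat.land (@OfNat.ofNat.{0} @Nat (nat_lit 1) (@instOfNatNat (nat_lit 1))) (@Nat.shiftRight (nat_lit 131071) (nat_lit 43))) (@OfNat.ofNat.{0} @Nat (nat_lit 1) (@instOfNatNat (nat_lit 1))) (@Eq.refl.{1} @Bool @Bool.false))) @x0 @(fun (x1 : @Nat.hasNotBit (nat_lit 131071) (@Cfsg.Agent.OrdDiv.Grp.ctorIdx @x0)) =>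 @Option.rec.{1, 0} @Nat @(fun (x2 : @Option.{0} @Nat) => @Nat) (nat_lit 0) @(fun (x2 : @Nat) => x2) (@Option.rec.{1, 0} (@Prod.{0, 0} @Cfsg.Agent.OrdDiv.Grp @Nat) @(fun (x2 : @Option.{0} (@Prod.{0, 0} @Cfsg.Agent.OrdDiv.Grp @Nat)) => @Option.{0} @Nat) (@Option.none.{0} @Nat) @(fun (x2 : @Prod.{0, 0} @Cfsg.Agent.OrdDiv.Grp @Nat) => @Option.some.{0} @Nat (@Prod.snd.{0, 0} @Cfsg.Agent.OrdDiv.Grp @Nat @x2)) (@Cfsg.Agent.KOd6bd8d0.k16.{0} (@Prod.{0, 0} @Cfsg.Agent.OrdDiv.Grp @Nat) @(fun (x2 : @Prod.{0, 0} @Cfsg.Agent.OrdDiv.Grp @Nat) => @Decidable.rec.{1} (@Eq.{1} @Cfsg.Agent.OrdDiv.Grp (@Prod.fst.{0, 0} @Cfsg.Agent.OrdDiv.Grp @Nat @x2) @x0) @(fun (x3 : @Decidable (@Eq.{1} @Cfsg.Agent.OrdDiv.Grp (@Prod.fst.{0, 0} @Cfsg.Agent.OrdDiv.Grp @Nat @x2) @x0)) => @Bool) @(fun (x3 : @Not (@Eq.{1} @Cfsg.Agent.OrdDiv.Grp (@Prod.fst.{0, 0} @Cfsg.Agent.OrdDiv.Grp @Nat @x2) @x0)) => @Bool.false) @(fun (x3 : @Eq.{1}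 @Cfsg.Agent.OrdDiv.Grp (@Prod.fst.{0, 0} @Cfsg.Agent.OrdDiv.Grp @Nat @x2) @x0) => @Bool.true) (@Cfsg.Agent.OrdDiv.instDecidableEqGrp.decEq (@Prod.fst.{0, 0} @Cfsg.Agent.OrdDiv.Grp @Nat @x2) @x0)) @Cfsg.Agent.OrdDiv.spor))))) ?_); rewrite [← Cfsg.Agent.KOd6bd8d0.e9, ← Cfsg.Agent.KOd6bd8d0.e16.{0}]; (try delta Cfsg.Agent.OrdDiv.ordN Cfsg.Agent.OrdDiv.instDecidableEqGrp); (try generalize @Cfsg.Agent.OrdDiv.Grp.ctorIdx = g0); (try generalize @Cfsg.Agent.OrdDiv.fPSL = g1); (try generalize @Cfsg.Agent.OrdDiv.fPSp = g2); (try generalize @Cfsg.Agent.OrdDiv.fPSU = g3); (try generalize @Cfsg.Agent.OrdDiv.fOOdd = g4); (try generalize @Cfsg.Agent.OrdDiv.fOPlus = g5); (try generalize @Cfsg.Agent.OrdDiv.fOMinus = g6); (try generalize @Cfsg.Agent.OrdDiv.fG2 = g7); (try generalize @Cfsg.Agent.OrdDiv.fF4 = g8); (try generalize @Cfsg.Agent.OrdDiv.fE6 = g9); (try generalize @Cfsg.Agent.OrdDiv.fE7 = g10); (try generalize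 @Cfsg.Agent.OrdDiv.fE8 = g11); (try generalize @Cfsg.Agent.OrdDiv.fTE6 = g12); (try generalize @Cfsg.Agent.OrdDiv.fTD4 = g13); (try generalize @Cfsg.Agent.OrdDiv.fSz = g14); (try generalize @Cfsg.Agent.OrdDiv.fRee = g15); (try generalize @Cfsg.Agent.OrdDiv.fTF4 = g16); (try generalize @Cfsg.Agent.OrdDiv.instDecidableEqGrp.decEq = g17); (try generalize @Cfsg.Agent.OrdDiv.spor = g18); rfl') | exact @Cfsg.Agent.OrdDiv.ordN | exact ()
private theorem _root_.Cfsg.Agent.KOd6bd8d0.e17 : (by first | exact @Cfsg.Agent.OrdDiv.ordN = @_root_.Cfsg.Agent.KOd6bd8d0.k17 | exact True : Prop) := by first | (delta _root_.Cfsg.Agent.KOd6bd8d0.k17; exact @Subtype.property _ (fun g => @Cfsg.Agent.OrdDiv.ordN = @g) _) | rfl | trivial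
private noncomputable def _root_.Cfsg.Agent.KOd6bd8d0.k18 : (by first | exact type_of% @Cfsg.Agent.H154.PG.loop | exact Unit : Sort _) := by first | (refine @Subtype.val _ (fun g => @Cfsg.Agent.H154.PG.loop = @g) (@Subtype.mk _ _ (@(fun (x0 : @Nat) (x1 : @Nat) (x2 : (@Nat → @Bool)) (x3 : @Nat) (x4 : @Nat) => @Nat.rec.{1} @(fun (x5 : @Nat) => (@Nat → @Bool)) @(fun (x5 : @Nat) => @Bool.false) @(fun (x5 : @Nat) (x6 : (@Nat → @Bool)) (x7 : @Nat) => @Bool.rec.{1} @(fun (x8 : @Bool) => @Bool) @Bool.true (@Bool.rec.{1} @(fun (x8 : @Bool) => @Bool) @Bool.false (@x6 (@Nat.add @x7 (nat_lit 1))) (@x2 @x7)) (@Nat.beq (@Nat.mod @x0 (@Nat.pow @x1 @x7)) (nat_lit 0))) @x3 @x4)) ?_); funext a0 a1 a2 a3 a4; refine (congrFun (_root_.Cfsg.Agent.KOd6bd8d0.e8 (fun a3 a4 => @Cfsg.Agent.H154.PG.loop a0 a1 a2 a3 a4) ?_ (fun c0 => ?_) a3) a4 :) <;> (rfl')) | exact @Cfsg.Agent.H154.PG.loop | exact ()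
private theorem _root_.Cfsg.Agent.KOd6bd8d0.e18 : (by first | exact @Cfsg.Agent.H154.PG.loop = @_root_.Cfsg.Agent.KOd6bd8d0.k18 | exact True : Prop) := by first | (delta _root_.Cfsg.Agent.KOd6bd8d0.k18; exact @Subtype.property _ (fun g => @Cfsg.Agent.H154.PG.loop = @g) _) | rfl | trivial
private noncomputable def _root_.Cfsg.Agent.KOd6bd8d0.k19 : (by first | exact type_of% @Cfsg.Agent.H154.PG.find | exact Unit : Sort _) := by first | (refine @Subtype.val _ (fun g => @Cfsg.Agent.H154.PG.find = @g) (@Subtype.mk _ _ (@(fun (x0 : @List.{0} (@Prod.{0, 0} @Nat (@Prod.{0, 0} @Nat (@Prod.{0, 0} @Nat (@List.{0} (@Prod.{0, 0} @Nat @Nat)))))) (x1 : @Nat) (x2 : @Nat) => @List.rec.{1, 0} (@Prod.{0, 0} @Nat (@Prod.{0, 0} @Nat (@Prod.{0, 0} @Nat (@List.{0} (@Prod.{0, 0} @Nat @Nat))))) @(fun (x3 : @List.{0} (@Prod.{0, 0} @Nat (@Prod.{0, 0} @Nat (@Prod.{0, 0} @Nat (@List.{0} (@Prod.{0, 0} @Nat @Nat)))))) => @Prod.{0,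 0} @Nat (@List.{0} (@Prod.{0, 0} @Nat @Nat))) (@Prod.mk.{0, 0} @Nat (@List.{0} (@Prod.{0, 0} @Nat @Nat)) (nat_lit 0) (@List.nil.{0} (@Prod.{0, 0} @Nat @Nat))) @(fun (x3 : @Prod.{0, 0} @Nat (@Prod.{0, 0} @Nat (@Prod.{0, 0} @Nat (@List.{0} (@Prod.{0, 0} @Nat @Nat))))) (x4 : @List.{0} (@Prod.{0, 0} @Nat (@Prod.{0, 0} @Nat (@Prod.{0, 0} @Nat (@List.{0} (@Prod.{0, 0} @Nat @Nat)))))) (x5 : @Prod.{0, 0} @Nat (@List.{0} (@Prod.{0, 0} @Nat @Nat))) => @Bool.rec.{1} @(fun (x6 : @Bool) => @Prod.{0, 0} @Nat (@List.{0} (@Prod.{0, 0} @Nat @Nat))) @x5 (@Prod.snd.{0, 0} @Nat (@Prod.{0, 0} @Nat (@List.{0} (@Prod.{0, 0} @Nat @Nat))) (@Prod.snd.{0, 0} @Nat (@Prod.{0, 0} @Nat (@Prod.{0, 0} @Nat (@List.{0} (@Prod.{0, 0} @Nat @Nat)))) @x3)) (@Bool.rec.{1} @(fun (x6 : @Bool) => @Bool) @Bool.false (@Nat.beq (@Prod.fst.{0, 0} @Nat (@Prod.{0, 0} @Nat (@List.{0} (@Prod.{0, 0} @Nat @Nat))) (@Prod.snd.{0, 0} @Nat (@Prod.{0,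 0} @Nat (@Prod.{0, 0} @Nat (@List.{0} (@Prod.{0, 0} @Nat @Nat)))) @x3)) @x2) (@Nat.beq (@Prod.fst.{0, 0} @Nat (@Prod.{0, 0} @Nat (@Prod.{0, 0} @Nat (@List.{0} (@Prod.{0, 0} @Nat @Nat)))) @x3) @x1))) @x0)) ?_); funext a0 a1 a2; refine (_root_.Cfsg.Agent.KOd6bd8d0.e0 (fun a0 => @Cfsg.Agent.H154.PG.find a0 a1 a2) ?_ (fun c0 c1 => ?_) a0 :) <;> (rfl')) | exact @Cfsg.Agent.H154.PG.find | exact ()
private theorem _root_.Cfsg.Agent.KOd6bd8d0.e19 : (by first | exact @Cfsg.Agent.H154.PG.find = @_root_.Cfsg.Agent.KOd6bd8d0.k19 | exact True : Prop) := by first | (delta _root_.Cfsg.Agent.KOd6bd8d0.k19; exact @Subtype.property _ (fun g => @Cfsg.Agent.H154.PG.find = @g) _) | rfl | trivial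
private noncomputable def _root_.Cfsg.Agent.KOd6bd8d0.k20 : (by first | exact type_of% @Cfsg.Agent.H154.PG.primesOf | exact Unit : Sort _) := by first | (refine @Subtype.val _ (fun g => @Cfsg.Agent.H154.PG.primesOf = @g) (@Subtype.mk _ _ (@(fun (x0 : @List.{0} (@Prod.{0, 0} @Nat @Nat)) (x1 : @Nat) => @Cfsg.Agent.KOd6bd8d0.k7.{0} @Nat @(fun (x2 : @Nat) => @Nat.beq (@Nat.mod @x1 @x2) (nat_lit 0)) (@Cfsg.Agent.KOd6bd8d0.k5.{0, 0} (@Prod.{0, 0} @Nat @Nat) @Nat @(fun (x2 : @Prod.{0, 0} @Nat @Nat) => @Prod.fst.{0, 0} @Nat @Nat @x2) @x0))) ?_); rewrite [← Cfsg.Agent.KOd6bd8d0.e7.{0}, ← Cfsg.Agent.KOd6bd8d0.e5.{0, 0}]; rfl') | exact @Cfsg.Agent.H154.PG.primesOf | exact ()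
private theorem _root_.Cfsg.Agent.KOd6bd8d0.e20 : (by first | exact @Cfsg.Agent.H154.PG.primesOf = @_root_.Cfsg.Agent.KOd6bd8d0.k20 | exact True : Prop) := by first | (delta _root_.Cfsg.Agent.KOd6bd8d0.k20; exact @Subtype.property _ (fun g => @Cfsg.Agent.H154.PG.primesOf = @g) _) | rfl | trivial
private noncomputable def _root_.Cfsg.Agent.KOd6bd8d0.k21 : (by first | exact type_of% @Cfsg.Agent.H154.PG.run | exact Unit : Sort _) := by first | (refine @Subtype.val _ (fun g => @Cfsg.Agent.H154.PG.run = @g) (@Subtype.mk _ _ (@(fun (x0 : (@Nat → (@Nat → @Bool))) (x1 : @List.{0} (@Prod.{0, 0} @Nat @Nat)) (x2 : @List.{0} @Nat) => @List.rec.{1, 0} (@Prod.{0, 0} @Nat @Nat) @(fun (x3 : @List.{0} (@Prod.{0, 0} @Nat @Nat)) => ((@List.{0} @Nat) → @List.{0} @Nat)) @(fun (x3 : @List.{0} @Nat) => x3) @(fun (x3 : @Prod.{0, 0} @Nat @Nat) (x4 : @List.{0} (@Prod.{0, 0} @Nat @Nat)) (x5 : ((@List.{0} @Nat) → @List.{0}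 @Nat)) (x6 : @List.{0} @Nat) => @Bool.rec.{1} @(fun (x7 : @Bool) => @List.{0} @Nat) (@List.nil.{0} @Nat) (@x5 (@List.cons.{0} @Nat (@Prod.fst.{0, 0} @Nat @Nat @x3) @x6)) (@Bool.rec.{1} @(fun (x7 : @Bool) => @Bool) @Bool.false (@x0 (@Prod.fst.{0, 0} @Nat @Nat @x3) (@Prod.snd.{0, 0} @Nat @Nat @x3)) (@Cfsg.Agent.KOd6bd8d0.k15 (@Prod.snd.{0, 0} @Nat @Nat @x3) @x6))) @x1 @x2)) ?_); rewrite [← Cfsg.Agent.KOd6bd8d0.e15]; funext a0 a1 a2; refine (congrFun (_root_.Cfsg.Agent.KOd6bd8d0.e0 (fun a1 a2 => @Cfsg.Agent.H154.PG.run a0 a1 a2) ?_ (fun c0 c1 => ?_) a1) a2 :) <;> ((try delta Cfsg.Agent.H154.PG.run Cfsg.Agent.H154.PG.run._f); (try generalize @Cfsg.Agent.H154.PG.memb = g0); rfl')) | exact @Cfsg.Agent.H154.PG.run | exact ()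
private theorem _root_.Cfsg.Agent.KOd6bd8d0.e21 : (by first | exact @Cfsg.Agent.H154.PG.run = @_root_.Cfsg.Agent.KOd6bd8d0.k21 | exact True : Prop) := by first | (delta _root_.Cfsg.Agent.KOd6bd8d0.k21; exact @Subtype.property _ (fun g => @Cfsg.Agent.H154.PG.run = @g) _) | rfl | trivial
private noncomputable def _root_.Cfsg.Agent.KOd6bd8d0.k22 : (by first | exact type_of% @Cfsg.Agent.H154.PG.allLt | exact Unit : Sort _) := by first | (refine @Subtype.val _ (fun g => @Cfsg.Agent.H154.PG.allLt = @g) (@Subtype.mk _ _ (@(fun (x0 : (@Nat → @Bool)) (x1 : @Nat) => @Nat.rec.{1} @(fun (x2 : @Nat) => @Bool) @Bool.true @(fun (x2 : @Nat) (x3 : @Bool) => @Bool.rec.{1} @(fun (x4 : @Bool) => @Bool) @Bool.false @x3 (@x0 @x2)) @x1)) ?_); funext a0 a1; refine (_root_.Cfsg.Agent.KOd6bd8d0.e8 (fun a1 => @Cfsg.Agent.H154.PG.allLt a0 a1) ?_ (fun c0 => ?_) a1 :) <;> (rfl')) | exact @Cfsg.Agent.H154.PG.allLt | exact ()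
private theorem _root_.Cfsg.Agent.KOd6bd8d0.e22 : (by first | exact @Cfsg.Agent.H154.PG.allLt = @_root_.Cfsg.Agent.KOd6bd8d0.k22 | exact True : Prop) := by first | (delta _root_.Cfsg.Agent.KOd6bd8d0.k22; exact @Subtype.property _ (fun g => @Cfsg.Agent.H154.PG.allLt = @g) _) | rfl | trivial
private noncomputable def _root_.Cfsg.Agent.KOd6bd8d0.k23 : (by first | exact type_of% @Cfsg.Agent.H154.PG.anyLt | exact Unit : Sort _) := by first | (refine @Subtype.val _ (fun g => @Cfsg.Agent.H154.PG.anyLt = @g) (@Subtype.mk _ _ (@(fun (x0 : (@Nat → @Bool)) (x1 : @Nat) => @Nat.rec.{1} @(fun (x2 : @Nat) => @Bool) @Bool.false @(fun (x2 : @Nat) (x3 : @Bool) => @Bool.rec.{1} @(fun (x4 : @Bool) => @Bool) @x3 @Bool.true (@x0 @x2)) @x1)) ?_); funext a0 a1; refine (_root_.Cfsg.Agent.KOd6bd8d0.e8 (fun a1 => @Cfsg.Agent.H154.PG.anyLt a0 a1) ?_ (fun c0 => ?_) a1 :) <;> (rfl')) | exact @Cfsg.Agent.H154.PG.anyLt | exact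 ()
private theorem _root_.Cfsg.Agent.KOd6bd8d0.e23 : (by first | exact @Cfsg.Agent.H154.PG.anyLt = @_root_.Cfsg.Agent.KOd6bd8d0.k23 | exact True : Prop) := by first | (delta _root_.Cfsg.Agent.KOd6bd8d0.k23; exact @Subtype.property _ (fun g => @Cfsg.Agent.H154.PG.anyLt = @g) _) | rfl | trivial
private noncomputable def _root_.Cfsg.Agent.KOd6bd8d0.k24 : (by first | exact type_of% @Cfsg.Agent.H154.PG.cfour | exact Unit : Sort _) := by first | (refine @Subtype.val _ (fun g => @Cfsg.Agent.H154.PG.cfour = @g) (@Subtype.mk _ _ (@(fun (x0 : @Nat) (x1 : @Nat) (x2 : @List.{0} @Nat) => @Cfsg.Agent.KOd6bd8d0.k1.{0} @Nat @x2 @(fun (x3 : @Nat) => @Bool.rec.{1} @(fun (x4 : @Bool) => @Bool) (@Cfsg.Agent.KOd6bd8d0.k23 @(fun (x4 : @Nat) => @Nat.beq (@Nat.mod (@Nat.sub (@Nat.pow @x0 (@Nat.add @x4 (nat_lit 1))) (nat_lit 1)) @x3) (nat_lit 0)) @x1) @Bool.true (@Nat.beq @x3 @x0)))) ?_); rewrite [← Cfsg.Agent.KOd6bd8d0.e1.{0},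 ← Cfsg.Agent.KOd6bd8d0.e23]; (try delta Cfsg.Agent.H154.PG.cfour Cfsg.Agent.H154.PG.dv); (try generalize @Cfsg.Agent.H154.PG.anyLt = g0); rfl') | exact @Cfsg.Agent.H154.PG.cfour | exact ()
private theorem _root_.Cfsg.Agent.KOd6bd8d0.e24 : (by first | exact @Cfsg.Agent.H154.PG.cfour = @_root_.Cfsg.Agent.KOd6bd8d0.k24 | exact True : Prop) := by first | (delta _root_.Cfsg.Agent.KOd6bd8d0.k24; exact @Subtype.property _ (fun g => @Cfsg.Agent.H154.PG.cfour = @g) _) | rfl | trivial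
private noncomputable def _root_.Cfsg.Agent.KOd6bd8d0.k25 : (by first | exact type_of% @Cfsg.Agent.H154.PG.hall | exact Unit : Sort _) := by first | (refine @Subtype.val _ (fun g => @Cfsg.Agent.H154.PG.hall = @g) (@Subtype.mk _ _ (@(fun (x0 : @Nat) (x1 : @Nat) (x2 : @Nat) (x3 : @Nat) => @Bool.rec.{1} @(fun (x4 : @Bool) => @Bool) (@Cfsg.Agent.KOd6bd8d0.k23 @(fun (x4 : @Nat) => @Nat.beq (@Nat.mod (@Nat.sub (@Nat.pow @x2 (@Nat.add @x4 (nat_lit 1))) (nat_lit 1)) (@Nat.pow @x0 @x1)) (nat_lit 0)) @x3) @Bool.true (@Cfsg.Agent.KOd6bd8d0.k23 @(fun (x4 : @Nat) => @Nat.beq (@Nat.mod (@Nat.sub (@Nat.pow @x0 (@Nat.add @x4 (nat_lit 1))) (nat_lit 1)) (@Nat.pow @x2 @x3)) (nat_lit 0)) @x1))) ?_); rewrite [← Cfsg.Agent.KOd6bd8d0.e23]; (try delta Cfsg.Agent.H154.PG.hall Cfsg.Agent.H154.PG.dv); (try generalize @Cfsg.Agent.H154.PG.anyLt = g0); rfl') | exact @Cfsg.Agent.H154.PG.hall | exact ()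
private theorem _root_.Cfsg.Agent.KOd6bd8d0.e25 : (by first | exact @Cfsg.Agent.H154.PG.hall = @_root_.Cfsg.Agent.KOd6bd8d0.k25 | exact True : Prop) := by first | (delta _root_.Cfsg.Agent.KOd6bd8d0.k25; exact @Subtype.property _ (fun g => @Cfsg.Agent.H154.PG.hall = @g) _) | rfl | trivial
private noncomputable def _root_.Cfsg.Agent.KOd6bd8d0.k26 : (by first | exact type_of% @Cfsg.Agent.H154.PG.na | exact Unit : Sort _) := by first | (refine @Subtype.val _ (fun g => @Cfsg.Agent.H154.PG.na = @g) (@Subtype.mk _ _ (@(fun (x0 : @Nat) (x1 : @Nat) (x2 : @Nat) (x3 : @Nat) (x4 : @Nat) (x5 : @Nat) (x6 : @Nat) (x7 : @Nat) (x8 : @List.{0} @Nat) => @Bool.rec.{1} @(fun (x9 : @Bool) => @Bool) @Bool.false (@Bool.rec.{1} @(fun (x9 : @Bool) => @Bool) @Bool.false (@Bool.rec.{1} @(fun (x9 : @Bool) => @Bool) @Bool.false (@Bool.rec.{1} @(fun (x9 : @Bool) => @Bool) @Bool.false (@Bool.rec.{1} @(fun (x9 : @Bool) => @Bool)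 @Bool.false (@Bool.rec.{1} @(fun (x9 : @Bool) => @Bool) @Bool.false (@Bool.rec.{1} @(fun (x9 : @Bool) => @Bool) (@Cfsg.Agent.KOd6bd8d0.k24 @x4 @x5 @x8) @Bool.true (@Bool.rec.{1} @(fun (x9 : @Bool) => @Bool) (@Nat.beq @x2 (nat_lit 0)) @Bool.true (@Nat.beq @x5 (nat_lit 0)))) (@Bool.rec.{1} @(fun (x9 : @Bool) => @Bool) (@Cfsg.Agent.KOd6bd8d0.k24 @x0 @x1 @x8) @Bool.true (@Bool.rec.{1} @(fun (x9 : @Bool) => @Bool) (@Nat.beq @x6 (nat_lit 0)) @Bool.true (@Nat.beq @x1 (nat_lit 0))))) (@Bool.rec.{1} @(fun (x9 : @Bool) => @Bool) (@Cfsg.Agent.KOd6bd8d0.k25 @x0 @x1 @x4 @x5) @Bool.true (@Bool.rec.{1} @(fun (x9 : @Bool) => @Bool) (@Nat.beq @x5 (nat_lit 0)) @Bool.true (@Nat.beq @x1 (nat_lit 0))))) (@Nat.beq (@Nat.mod (@Nat.sub (@Nat.pow @x4 (@Nat.add @x5 @x6)) (nat_lit 1)) (@Nat.pow @x0 @x3)) (nat_lit 0))) (@Nat.beq (@Nat.mod (@Nat.sub (@Nat.pow @x4 @x5) (nat_lit 1)) (@Nat.pow @x0 (@Nat.add @x2 @x3))) (nat_lit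 0))) (@Nat.beq (@Nat.mod (@Nat.sub (@Nat.pow @x0 (@Nat.add @x1 @x2)) (nat_lit 1)) (@Nat.pow @x4 @x7)) (nat_lit 0))) (@Nat.beq (@Nat.mod (@Nat.sub (@Nat.pow @x0 @x1) (nat_lit 1)) (@Nat.pow @x4 (@Nat.add @x6 @x7))) (nat_lit 0)))) ?_); rewrite [← Cfsg.Agent.KOd6bd8d0.e24, ← Cfsg.Agent.KOd6bd8d0.e25]; (try delta Cfsg.Agent.H154.PG.na Cfsg.Agent.H154.PG.dv); (try generalize @Cfsg.Agent.H154.PG.cfour = g0); (try generalize @Cfsg.Agent.H154.PG.hall = g1); rfl') | exact @Cfsg.Agent.H154.PG.na | exact ()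
private theorem _root_.Cfsg.Agent.KOd6bd8d0.e26 : (by first | exact @Cfsg.Agent.H154.PG.na = @_root_.Cfsg.Agent.KOd6bd8d0.k26 | exact True : Prop) := by first | (delta _root_.Cfsg.Agent.KOd6bd8d0.k26; exact @Subtype.property _ (fun g => @Cfsg.Agent.H154.PG.na = @g) _) | rfl | trivial
private noncomputable def _root_.Cfsg.Agent.KOd6bd8d0.k27 : (by first | exact type_of% @Cfsg.Agent.H154.PG.forced | exact Unit : Sort _) := by first | (refine @Subtype.val _ (fun g => @Cfsg.Agent.H154.PG.forced = @g) (@Subtype.mk _ _ (@(fun (x0 : @Nat) (x1 : @Nat) (x2 : @Nat) (x3 : @Nat) (x4 : @Nat) (x5 : @Nat) (x6 : @Nat) (x7 : @List.{0} @Nat) => @Bool.rec.{1} @(fun (x8 : @Bool) => @Bool) (@Cfsg.Agent.KOd6bd8d0.k22 @(fun (x8 : @Nat) => @Cfsg.Agent.KOd6bd8d0.k22 @(fun (x9 : @Nat) => @Bool.rec.{1} @(fun (x10 : @Bool) => @Bool) @Bool.true @Bool.false (@Cfsg.Agent.KOd6bd8d0.k26 @x0 @x8 @x2 (@Nat.sub (@Nat.sub @x1 @x2)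 @x8) @x3 @x9 @x5 (@Nat.sub (@Nat.sub @x4 @x5) @x9) @x7)) (@Nat.add (@Nat.sub @x4 @x5) (nat_lit 1))) (@Nat.add (@Nat.sub @x1 @x2) (nat_lit 1))) @Bool.true (@Bool.rec.{1} @(fun (x8 : @Bool) => @Bool) @Bool.false (@Nat.ble (@Nat.succ (nat_lit 0)) @x5) (@Bool.rec.{1} @(fun (x8 : @Bool) => @Bool) @Bool.false (@Nat.ble (@Nat.succ (nat_lit 0)) @x2) (@Nat.ble (nat_lit 2) @x6))))) ?_); rewrite [← Cfsg.Agent.KOd6bd8d0.e22, ← Cfsg.Agent.KOd6bd8d0.e26]; (try delta Cfsg.Agent.H154.PG.forced); (try generalize @Cfsg.Agent.H154.PG.allLt = g0); (try generalize @Cfsg.Agent.H154.PG.na = g1); rfl') | exact @Cfsg.Agent.H154.PG.forced | exact ()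
private theorem _root_.Cfsg.Agent.KOd6bd8d0.e27 : (by first | exact @Cfsg.Agent.H154.PG.forced = @_root_.Cfsg.Agent.KOd6bd8d0.k27 | exact True : Prop) := by first | (delta _root_.Cfsg.Agent.KOd6bd8d0.k27; exact @Subtype.property _ (fun g => @Cfsg.Agent.H154.PG.forced = @g) _) | rfl | trivial
private noncomputable def _root_.Cfsg.Agent.KOd6bd8d0.k28 : (by first | exact type_of% @Cfsg.Agent.H154.PG.ex | exact Unit : Sort _) := by first | (refine @Subtype.val _ (fun g => @Cfsg.Agent.H154.PG.ex = @g) (@Subtype.mk _ _ (@(fun (x0 : @Nat) (x1 : @List.{0} (@Prod.{0, 0} @Nat @Nat)) => @List.rec.{1, 0} (@Prod.{0, 0} @Nat @Nat) @(fun (x2 : @List.{0} (@Prod.{0, 0} @Nat @Nat)) => @Nat) (nat_lit 0) @(fun (x2 : @Prod.{0, 0} @Nat @Nat) (x3 : @List.{0} (@Prod.{0, 0} @Nat @Nat)) (x4 : @Nat) => @Bool.rec.{1} @(fun (x5 : @Bool) => @Nat) @x4 (@Prod.snd.{0, 0} @Nat @Nat @x2) (@Nat.beq (@Prod.fst.{0, 0} @Nat @Nat @x2)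 @x0)) @x1)) ?_); funext a0 a1; refine (_root_.Cfsg.Agent.KOd6bd8d0.e0 (fun a1 => @Cfsg.Agent.H154.PG.ex a0 a1) ?_ (fun c0 c1 => ?_) a1 :) <;> (rfl')) | exact @Cfsg.Agent.H154.PG.ex | exact ()
private theorem _root_.Cfsg.Agent.KOd6bd8d0.e28 : (by first | exact @Cfsg.Agent.H154.PG.ex = @_root_.Cfsg.Agent.KOd6bd8d0.k28 | exact True : Prop) := by first | (delta _root_.Cfsg.Agent.KOd6bd8d0.k28; exact @Subtype.property _ (fun g => @Cfsg.Agent.H154.PG.ex = @g) _) | rfl | trivial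
private noncomputable def _root_.Cfsg.Agent.KOd6bd8d0.k29 : (by first | exact type_of% @Cfsg.Agent.H154.PG.val | exact Unit : Sort _) := by first | (refine @Subtype.val _ (fun g => @Cfsg.Agent.H154.PG.val = @g) (@Subtype.mk _ _ (@(fun (x0 : @Nat) (x1 : @Nat) (x2 : @Nat) => @Nat.rec.{1} @(fun (x3 : @Nat) => (@Nat → @Nat)) @(fun (x3 : @Nat) => nat_lit 0) @(fun (x3 : @Nat) (x4 : (@Nat → @Nat)) (x5 : @Nat) => @Bool.rec.{1} @(fun (x6 : @Bool) => @Nat) (nat_lit 0) (@Nat.add (@x4 (@Nat.div @x5 @x0)) (nat_lit 1)) (@Nat.beq (@Nat.mod @x5 @x0) (nat_lit 0))) @x1 @x2)) ?_); funext a0 a1 a2; refine (congrFun (_root_.Cfsg.Agent.KOd6bd8d0.e8 (fun a1 a2 => @Cfsg.Agent.H154.PG.val a0 a1 a2) ?_ (fun c0 => ?_) a1) a2 :) <;> (rfl')) | exact @Cfsg.Agent.H154.PG.val | exact ()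
private theorem _root_.Cfsg.Agent.KOd6bd8d0.e29 : (by first | exact @Cfsg.Agent.H154.PG.val = @_root_.Cfsg.Agent.KOd6bd8d0.k29 | exact True : Prop) := by first | (delta _root_.Cfsg.Agent.KOd6bd8d0.k29; exact @Subtype.property _ (fun g => @Cfsg.Agent.H154.PG.val = @g) _) | rfl | trivial
private noncomputable def _root_.Cfsg.Agent.KOd6bd8d0.k30 : (by first | exact type_of% @Cfsg.Agent.H154.PG.edge | exact Unit : Sort _) := by first | (refine @Subtype.val _ (fun g => @Cfsg.Agent.H154.PG.edge = @g) (@Subtype.mk _ _ (@(fun (x0 : @List.{0} (@Prod.{0, 0} @Nat @Nat)) (x1 : @Nat) (x2 : @Nat) (x3 : @List.{0} @Nat) (x4 : @Nat) (x5 : @Nat) => @Bool.rec.{1} @(fun (x6 : @Bool) => @Bool) @Bool.false (@Cfsg.Agent.KOd6bd8d0.k27 @x4 (@Cfsg.Agent.KOd6bd8d0.k28 @x4 @x0) (@Nat.mul @x2 (@Cfsg.Agent.KOd6bd8d0.k29 @x4 (@Cfsg.Agent.KOd6bd8d0.k28 @x4 @x0) @x1)) @x5 (@Cfsg.Agent.KOd6bd8d0.k28 @x5 @x0) (@Nat.mul @x2 (@Cfsg.Agent.KOd6bd8d0.k29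 @x5 (@Cfsg.Agent.KOd6bd8d0.k28 @x5 @x0) @x1)) @x2 @x3) (@Nat.ble (@Nat.succ (nat_lit 0)) (@Cfsg.Agent.KOd6bd8d0.k28 @x4 @x0)))) ?_); rewrite [← Cfsg.Agent.KOd6bd8d0.e27, ← Cfsg.Agent.KOd6bd8d0.e28, ← Cfsg.Agent.KOd6bd8d0.e29]; (try delta Cfsg.Agent.H154.PG.edge); (try generalize @Cfsg.Agent.H154.PG.forced = g0); (try generalize @Cfsg.Agent.H154.PG.ex = g1); (try generalize @Cfsg.Agent.H154.PG.val = g2); rfl') | exact @Cfsg.Agent.H154.PG.edge | exact ()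
private theorem _root_.Cfsg.Agent.KOd6bd8d0.e30 : (by first | exact @Cfsg.Agent.H154.PG.edge = @_root_.Cfsg.Agent.KOd6bd8d0.k30 | exact True : Prop) := by first | (delta _root_.Cfsg.Agent.KOd6bd8d0.k30; exact @Subtype.property _ (fun g => @Cfsg.Agent.H154.PG.edge = @g) _) | rfl | trivial
private noncomputable def _root_.Cfsg.Agent.KOd6bd8d0.k31 : (by first | exact type_of% @Cfsg.Agent.H154.PG.chk | exact Unit : Sort _) := by first | (refine @Subtype.val _ (fun g => @Cfsg.Agent.H154.PG.chk = @g) (@Subtype.mk _ _ (@(fun (x0 : @List.{0} (@Prod.{0, 0} @Nat @Nat)) (x1 : @Nat) (x2 : @Nat) (x3 : @Nat) (x4 : @List.{0} (@Prod.{0, 0} @Nat @Nat)) => (let x5 : @List.{0} @Nat := @Cfsg.Agent.KOd6bd8d0.k20 @x0 @x1; (let x6 : @List.{0} @Nat := @Cfsg.Agent.KOd6bd8d0.k21 (@Cfsg.Agent.KOd6bd8d0.k30 @x0 @x1 @x2 @x5) @x4 (@List.cons.{0} @Nat (nat_lit 2) (@List.nil.{0} @Nat)); @Bool.rec.{1} @(fun (x7 : @Bool) => @Bool)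 (@Bool.rec.{1} @(fun (x7 : @Bool) => @Bool) @Bool.false (@Bool.rec.{1} @(fun (x7 : @Bool) => @Bool) @Bool.false (@Bool.rec.{1} @(fun (x7 : @Bool) => @Bool) @Bool.false (@Bool.rec.{1} @(fun (x7 : @Bool) => @Bool) @Bool.false (@Cfsg.Agent.KOd6bd8d0.k22 @(fun (x7 : @Nat) => @Cfsg.Agent.KOd6bd8d0.k22 @(fun (x8 : @Nat) => @Bool.rec.{1} @(fun (x9 : @Bool) => @Bool) @Bool.true @Bool.false (@Cfsg.Agent.KOd6bd8d0.k26 (nat_lit 2) @x7 (@Nat.mul @x2 (@Cfsg.Agent.KOd6bd8d0.k29 (nat_lit 2) (@Cfsg.Agent.KOd6bd8d0.k28 (nat_lit 2) @x0) @x1)) (@Nat.sub (@Nat.sub (@Cfsg.Agent.KOd6bd8d0.k28 (nat_lit 2) @x0) (@Nat.mul @x2 (@Cfsg.Agent.KOd6bd8d0.k29 (nat_lit 2) (@Cfsg.Agent.KOd6bd8d0.k28 (nat_lit 2) @x0) @x1))) @x7) @x3 (@Nat.add @x8 (nat_lit 1)) (nat_lit 0) (@Nat.sub (@Cfsg.Agent.KOd6bd8d0.k28 @x3 @x0) (@Nat.add @x8 (nat_lit 1))) @x5)) (@Cfsg.Agent.KOd6bd8d0.k28 @x3 @x0)) (@Nat.add (@Nat.sub (@Cfsg.Agent.KOd6bd8d0.k28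 (nat_lit 2) @x0) (@Nat.mul @x2 (@Cfsg.Agent.KOd6bd8d0.k29 (nat_lit 2) (@Cfsg.Agent.KOd6bd8d0.k28 (nat_lit 2) @x0) @x1))) (nat_lit 1))) (@Bool.rec.{1} @(fun (x7 : @Bool) => @Bool) @Bool.true @Bool.false (@Nat.beq (@Nat.mod @x1 @x3) (nat_lit 0)))) (@Bool.rec.{1} @(fun (x7 : @Bool) => @Bool) @Bool.true @Bool.false (@Nat.beq @x3 (nat_lit 2)))) (@Nat.ble (@Nat.succ (nat_lit 0)) (@Cfsg.Agent.KOd6bd8d0.k28 @x3 @x0))) (@Cfsg.Agent.KOd6bd8d0.k1.{0} (@Prod.{0, 0} @Nat @Nat) @x0 @(fun (x7 : @Prod.{0, 0} @Nat @Nat) => @Bool.rec.{1} @(fun (x8 : @Bool) => @Bool) (@Cfsg.Agent.KOd6bd8d0.k15 (@Prod.fst.{0, 0} @Nat @Nat @x7) @x6) @Bool.true (@Nat.beq (@Prod.fst.{0, 0} @Nat @Nat @x7) @x3)))) (@Cfsg.Agent.KOd6bd8d0.k1.{0} (@Prod.{0, 0} @Nat @Nat) @x0 @(fun (x7 : @Prod.{0, 0} @Nat @Nat) => @Cfsg.Agent.KOd6bd8d0.k15 (@Prod.fst.{0, 0} @Nat @Nat @x7) @x6)) (@Nat.beq @x3 (nat_lit 0)))))) ?_); rewrite [← Cfsg.Agent.KOd6bd8d0.e20,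 ← Cfsg.Agent.KOd6bd8d0.e21, ← Cfsg.Agent.KOd6bd8d0.e30, ← Cfsg.Agent.KOd6bd8d0.e22, ← Cfsg.Agent.KOd6bd8d0.e26, ← Cfsg.Agent.KOd6bd8d0.e29, ← Cfsg.Agent.KOd6bd8d0.e28, ← Cfsg.Agent.KOd6bd8d0.e1.{0}, ← Cfsg.Agent.KOd6bd8d0.e15]; (try delta Cfsg.Agent.H154.PG.chk Cfsg.Agent.H154.PG.dv); (try generalize @Cfsg.Agent.H154.PG.primesOf = g0); (try generalize @Cfsg.Agent.H154.PG.run = g1); (try generalize @Cfsg.Agent.H154.PG.edge = g2); (try generalize @Cfsg.Agent.H154.PG.allLt = g3); (try generalize @Cfsg.Agent.H154.PG.na = g4); (try generalize @Cfsg.Agent.H154.PG.val = g5); (try generalize @Cfsg.Agent.H154.PG.ex = g6); (try generalize @Cfsg.Agent.H154.PG.memb = g7); rfl') | exact @Cfsg.Agent.H154.PG.chk | exact ()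
private theorem _root_.Cfsg.Agent.KOd6bd8d0.e31 : (by first | exact @Cfsg.Agent.H154.PG.chk = @_root_.Cfsg.Agent.KOd6bd8d0.k31 | exact True : Prop) := by first | (delta _root_.Cfsg.Agent.KOd6bd8d0.k31; exact @Subtype.property _ (fun g => @Cfsg.Agent.H154.PG.chk = @g) _) | rfl | trivial
private noncomputable def _root_.Cfsg.Agent.KOd6bd8d0.k32 : (by first | exact type_of% @Cfsg.Agent.H154.PG.chkOrder | exact Unit : Sort _) := by first | (refine @Subtype.val _ (fun g => @Cfsg.Agent.H154.PG.chkOrder = @g) (@Subtype.mk _ _ (@(fun (x0 : @List.{0} (@Prod.{0, 0} @Nat @Nat)) (x1 : @Nat) (x2 : @List.{0} (@Prod.{0, 0} @Nat (@Prod.{0, 0} @Nat (@Prod.{0, 0} @Nat (@List.{0} (@Prod.{0, 0} @Nat @Nat)))))) (x3 : @Nat) => @Cfsg.Agent.KOd6bd8d0.k18 @x1 @x3 @(fun (x4 : @Nat) => @Bool.rec.{1} @(fun (x5 : @Bool) => @Bool) (let x5 : @Prod.{0, 0} @Nat (@List.{0} (@Prod.{0, 0} @Nat @Nat)) := @Cfsg.Agent.KOd6bd8d0.k19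 @x2 @x3 @x4; @Cfsg.Agent.KOd6bd8d0.k31 @x0 @x3 @x4 (@Prod.fst.{0, 0} @Nat (@List.{0} (@Prod.{0, 0} @Nat @Nat)) @x5) (@Prod.snd.{0, 0} @Nat (@List.{0} (@Prod.{0, 0} @Nat @Nat)) @x5)) @Bool.true (@Bool.rec.{1} @(fun (x5 : @Bool) => @Bool) @Bool.false (@Nat.beq @x4 (nat_lit 1)) (@Nat.beq (@Nat.pow @x3 @x4) @x1))) (nat_lit 100) (nat_lit 1))) ?_); rewrite [← Cfsg.Agent.KOd6bd8d0.e18, ← Cfsg.Agent.KOd6bd8d0.e19, ← Cfsg.Agent.KOd6bd8d0.e31]; (try delta Cfsg.Agent.H154.PG.chkOrder); (try generalize @Cfsg.Agent.H154.PG.loop = g0); (try generalize @Cfsg.Agent.H154.PG.find = g1); (try generalize @Cfsg.Agent.H154.PG.chk = g2); rfl') | exact @Cfsg.Agent.H154.PG.chkOrder | exact ()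
private theorem _root_.Cfsg.Agent.KOd6bd8d0.e32 : (by first | exact @Cfsg.Agent.H154.PG.chkOrder = @_root_.Cfsg.Agent.KOd6bd8d0.k32 | exact True : Prop) := by first | (delta _root_.Cfsg.Agent.KOd6bd8d0.k32; exact @Subtype.property _ (fun g => @Cfsg.Agent.H154.PG.chkOrder = @g) _) | rfl | trivial

set_option maxRecDepth 100000 in
/-- groups of the order of `J4` -/
theorem all_j4 (T : OrderTable.{0})
    (hS : ∀ (S : Type) [Group S] [Finite S], IsSimpleGroup S → IsKnownSimple' S) :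
    AllSimple.{u} 86775571046077562880 :=
  allSimple T hS (l := l_j4) (by decide +kernel) (by decide) (L := ords_j4) (by (first | (rewrite [Cfsg.Agent.KOd6bd8d0.e1.{0}, Cfsg.Agent.KOd6bd8d0.e14, Cfsg.Agent.KOd6bd8d0.e15, Cfsg.Agent.KOd6bd8d0.e17]; decide +kernel) | decide +kernel))
    (tr0 := (beta% delta% lq261a5236b9 fun a b c _ _ _ _ _ _ _ _ _ _ _ _ _ _ _ _ _ _ _ _ _ _ _ _ _ _ _ _ _ _ _ _ _ _ _ _ _ _ _ _ _ _ _ _ _ _ =>
 (b (a 11 2)<|b (a 29 2)<|b (a 37 2)<|b (a 3 11)<|b (a 5 3)<|b (a 7 3)<|b (a 23 3)<|b (a 31 3)<|b (a 43 3)<|c))) (by decide +kernel) (certs := certs_j4) (by (first | (rewrite [Cfsg.Agent.KOd6bd8d0.e1.{0}, Cfsg.Agent.KOd6bd8d0.e32]; decide +kernel) | decide +kernel))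

def l_co1 : List (ℕ × ℕ) := (beta% delta% lq261a5236b9 fun a b c _ _ _ _ _ _ _ _ _ _ _ _ _ _ _ _ _ _ _ _ _ _ _ _ _ _ _ _ _ _ _ _ _ _ _ _ _ _ _ _ _ _ _ _ _ _ =>
 (b (a 2 21)<|b (a 3 9)<|b (a 5 4)<|b (a 7 2)<|b (a 11 1)<|b (a 13 1)<|b (a 23 1)<|c))

noncomputable def ords_co1 : List ℕ :=
  (by
  refine (?fq9007 : ((pk61l (fun i1 => (pk61d (nat_lit 62) 
    (nat_lit 0xe6cd8fe8258000000003ab7f4460000000099e7fe7000000000983bbbac00000000260eeeeb00000000736dfed400000001a18de58000000000a261d94000000000890b200000000001114eea0000000002e651980000000003efc100000000000d621620000000000eff1000000000003a5ed00000000000e467e00000000003263400000000000a61d000000000000a93080000000000287d7800000000004c22a0000000000112380000000000034350000000000009ba7800000000001723200000000000476940000000000103230000000000031d58000000000006ebe00000000000162600000000000024ea0000000000006c48000000000000fff0000000000002c4c0000000000007b0c0000000000017340000000000003cf0000000000000e5b0000000000001c7000000000000065400000000000013b000000000000026640000000000007bc0000000000001e780000000000005ee00000000000017a000000000000057c00000000000009d8000000000000111000000000000029400000000000007e000000000000016800000000000002a000000000000003c)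 i1)) (nat_lit 0) (nat_lit 54) List.nil) : List ℕ)
    = ?xq9007 → (List ℕ)) ?hq9007; (case hq9007 => (set_option maxRecDepth 1000000 in set_option simprocs false in conv => lhs; reduce; dsimp only)); intro _; exact ?xq9007 : List ℕ)

noncomputable def certs_co1 : List (ℕ × ℕ × ℕ × List (ℕ × ℕ)) :=
  (by
  refine (?fq9008 : ((pk61l (fun i1 => (_root_.Prod.mk (pk61d (nat_lit 46) 
    (nat_lit 0x3ab7f446000099e7fe700000983bbbac0000260eeeeb0000736dfed40001a18de5800000a261d9400000890b20000001114eea000002e65198000003efc10000000d62162000000eff100000003a5ed0000000e467e000000326340000000a61d00000000a9308000000287d780000004c22a0000001123800000003435000000009ba780000001723200000004769400000010323000000031d5800000006ebe00000001baf800000005898000000016260000000024ea0000000093a800000001b12000000003ffc00000000b13000000002c4c000000007b0c00000001734000000003cf000000000e5b000000001c7000000000654000000001950000000004ec0000000013b0000000002664000000007bc000000001e78000000005ee0000000017a0000000005e80000000015f0000000002760000000009d8000000001110000000002940000000007e0000000001f80000000005a0000000001680000000005a0000000001680000000002a0000000000a80000000000f00000000003c0000000000f00000000003c)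 i1) (_root_.Prod.mk (pk61d (nat_lit 3) 
    (nat_lit 0x124924924924924924925145125124928a2492894494634518d1) i1) (_root_.Prod.mk (nat_lit 0) (pk61l (fun i2 => (_root_.Prod.mk (pk61d (nat_lit 5) 
    (nat_lit 0x2ed59ca3) (pk61d (nat_lit 3) 
    (nat_lit 0xc75010d4c3b0a0ec28435322c4c18ea22c4ccad006c4c195a22c4c1ad40654c1b13065681b1a06c4c8ae206c4c235c0557019532158c295922b508b1a95a201b1ab1a201b1a95a201b1a06c4c1ad4b1a201b1a16344156308d701b1a06b5158c842c2ec68806c681ad40558c235c0558cd8d006c68855cb1a201b1a06b501563363401b1a8ab2158c8563202b0b363401b1a8ab2158c8563202b0b) i2)) (pk61d (nat_lit 5) 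
    (nat_lit 0x5dab39462) (pk61d (nat_lit 3) 
    (nat_lit 0xb64893381e69879a624ce092381bd9892480b24892381b8d872481db689238249206e361b6d88e482db58924825b68924a248e0b6d812890b6da1b6d869001b6d86d801b6d869001b6d892481db686d801b6d8492424920b6da1b6d876da0924051281b6006db61db6892482db6892581b6c06db60cb686d801b6d8b6da249206db01b6d82920124804920224a06db01b6d82920124804920224a0) i2)))) (Nat.mul (nat_lit 6) i1) (Nat.mul (nat_lit 6) (Nat.succ i1)) List.nil))))) (nat_lit 0) (nat_lit 69) List.nil) : List (ℕ × ℕ × ℕ × List (ℕ × ℕ)))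
    = ?xq9008 → (List (ℕ × ℕ × ℕ × List (ℕ × ℕ)))) ?hq9008; (case hq9008 => (set_option maxRecDepth 1000000 in set_option simprocs false in conv => lhs; reduce; dsimp only)); intro _; exact ?xq9008 : List (ℕ × ℕ × ℕ × List (ℕ × ℕ)))

set_option maxRecDepth 100000 in
/-- groups of the order of `Co1` -/
theorem all_co1 (T : OrderTable.{0})
    (hS : ∀ (S : Type) [Group S] [Finite S], IsSimpleGroup S → IsKnownSimple' S) :
    AllSimple.{u} 4157776806543360000 :=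
  allSimple T hS (l := l_co1) (by decide +kernel) (by decide) (L := ords_co1) (by (first | (rewrite [Cfsg.Agent.KOd6bd8d0.e1.{0}, Cfsg.Agent.KOd6bd8d0.e14, Cfsg.Agent.KOd6bd8d0.e15, Cfsg.Agent.KOd6bd8d0.e17]; decide +kernel) | decide +kernel))
    (tr0 := [(3, 2), (5, 2), (7, 3), (23, 3), (11, 5), (13, 7)]) (by decide +kernel) (certs := certs_co1) (by (first | (rewrite [Cfsg.Agent.KOd6bd8d0.e1.{0}, Cfsg.Agent.KOd6bd8d0.e32]; decide +kernel) | decide +kernel))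

def l_co2 : List (ℕ × ℕ) := [(2, 18), (3, 6), (5, 3), (7, 1), (11, 1), (23, 1)]

def ords_co2 : List ℕ := (beta% delta% lq261a5236b9 fun _ b c _ _ _ _ _ _ _ _ _ _ _ _ _ _ _ _ _ _ _ _ _ _ _ _ _ _ _ _ _ _ _ _ _ _ _ _ _ _ _ _ _ _ _ _ _ _ =>
 (b 60<|b 168<|b 360<|b 504<|b 660<|b 2520<|b 6048<|b 6072<|b 7920<|b 20160<|b 25920<|b 95040<|b 126000<|b 181440<|b 443520<|b 604800<|b 1451520<|b 1814400<|b 3265920<|b 10200960<|b 13685760<|b 19958400<|b 44352000<|b 174182400<|b 239500800<|b 244823040<|b 898128000<|b 9196830720<|b 42305421312000<|c))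

noncomputable def certs_co2 : List (ℕ × ℕ × ℕ × List (ℕ × ℕ)) :=
  (by
  refine (?fq9009 : ((pk61l (fun i1 => (_root_.Prod.mk (pk61d (nat_lit 34) 
    (nat_lit 0x890b200003588588003a5ed0000e467e0002987400002a4c200004c22a0000d0d4000026e9e000031d5800006ebe000016260000024ea000006c4800000b13000001ec3000005cd0000006540000013b0000001ef0000005ee0000017a0000002760000002940000007e0000001680000005a0000001680000002a00000003c0000000f00000003c) i1) (_root_.Prod.mk (pk61d (nat_lit 2) 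
    (nat_lit 0x5555555555557979) i1) (_root_.Prod.mk (nat_lit 0) (pk61l (fun i2 => (_root_.Prod.mk (pk61d (nat_lit 5) 
    (nat_lit 0x2ac773ace5b8c77594e35dca7bace518d67b946bb94e5b9c6b1dd65394f758c77594e51dceb1dd6538cabb9ca3b9d633dd65196e7596e71ac65b9d632dceb196e7594773ac65b9d632dceb196e759eeb28eeb39463b9cab196e75dd6728eeb39463baca7) i2) (pk61d (nat_lit 5) 
    (nat_lit 0x1dee715ef7188e529c4bb9ce239ca3116f7288f739c4b5ad62394a710d63188e739c4739d6239ce711cf7388e73ac45594a25ad6b11c63588e73ac4b5ad625aceb11ce7588e73ac475ad6239ceb11463108a5288472956239ceb114a5108a528847294e2) i2))) (Nat.mul (nat_lit 5) i1) (Nat.mul (nat_lit 5) (Nat.succ i1)) List.nil))))) (nat_lit 0) (nat_lit 32) List.nil) : List (ℕ × ℕ × ℕ × List (ℕ × ℕ)))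
    = ?xq9009 → (List (ℕ × ℕ × ℕ × List (ℕ × ℕ)))) ?hq9009; (case hq9009 => (set_option maxRecDepth 1000000 in set_option simprocs false in conv => lhs; reduce; dsimp only)); intro _; exact ?xq9009 : List (ℕ × ℕ × ℕ × List (ℕ × ℕ)))

set_option maxRecDepth 100000 in
/-- groups of the order of `Co2` -/
theorem all_co2 (T : OrderTable.{0})
    (hS : ∀ (S : Type) [Group S] [Finite S], IsSimpleGroup S → IsKnownSimple' S) :
    AllSimple.{u} 42305421312000 :=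
  allSimple T hS (l := l_co2) (by decide +kernel) (by decide) (L := ords_co2) (by (first | (rewrite [Cfsg.Agent.KOd6bd8d0.e1.{0}, Cfsg.Agent.KOd6bd8d0.e14, Cfsg.Agent.KOd6bd8d0.e15, Cfsg.Agent.KOd6bd8d0.e17]; decide +kernel) | decide +kernel))
    (tr0 := [(3, 2), (5, 2), (23, 3), (7, 5), (11, 5)]) (by decide +kernel) (certs := certs_co2) (by (first | (rewrite [Cfsg.Agent.KOd6bd8d0.e1.{0}, Cfsg.Agent.KOd6bd8d0.e32]; decide +kernel) | decide +kernel))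

def l_co3 : List (ℕ × ℕ) := [(2, 10), (3, 7), (5, 3), (7, 1), (11, 1), (23, 1)]

def ords_co3 : List ℕ := (beta% delta% lq261a5236b9 fun _ b c _ _ _ _ _ _ _ _ _ _ _ _ _ _ _ _ _ _ _ _ _ _ _ _ _ _ _ _ _ _ _ _ _ _ _ _ _ _ _ _ _ _ _ _ _ _ =>
 (b 60<|b 168<|b 360<|b 504<|b 660<|b 2520<|b 6048<|b 6072<|b 7920<|b 20160<|b 25920<|b 95040<|b 126000<|b 181440<|b 443520<|b 604800<|b 1451520<|b 1814400<|b 3265920<|b 10200960<|b 13685760<|b 19958400<|b 44352000<|b 239500800<|b 244823040<|b 898128000<|b 495766656000<|c))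

noncomputable def certs_co3 : List (ℕ × ℕ × ℕ × List (ℕ × ℕ)) :=
  (by
  refine (?fq9010 : ((pk61l (fun i1 => (_root_.Prod.mk (pk61d (nat_lit 30) 
    (nat_lit 0xd6216200e97b4003919f8002a4c20004c22a000d0d400026e9e00031d580006ebe0001626000024ea00006c480000b1300001ec300005cd00000654000013b000001ef000005ee000017a0000027600000294000007e00000168000005a00000168000002a0000003c000000f0000003c) i1) (_root_.Prod.mk (pk61d (nat_lit 2) 
    (nat_lit 0x555555555557979) i1) (_root_.Prod.mk (nat_lit 0) (pk61l (fun i2 => (_root_.Prod.mk (pk61d (nat_lit 5) 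
    (nat_lit 0xf758ca3bace51aee728d672dc6bb94e51aee71dd6538cb759c77594e32dceb1dd6538cabb9c65bace33dd65196e758ee72ac65bace32dceb196e758cb759c65b9d632dceb196e75dd6728eeb39463b9cab196e75dd6728eeb39463baca7) i2) (pk61d (nat_lit 5) 
    (nat_lit 0x2e519442294a23dce5116f7b88f739c4211c42394a712ce7388e739c4739d6239ce711cf7388e739c45594a25ad6b11ca5588e739c475ad625aceb11ce7388e73ac4b5ad6239ceb114a5108a5288472956259ceb114a5108a528847294e2) i2))) (Nat.mul (nat_lit 5) i1) (Nat.mul (nat_lit 5) (Nat.succ i1)) List.nil))))) (nat_lit 0) (nat_lit 30) List.nil) : List (ℕ × ℕ × ℕ × List (ℕ × ℕ)))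
    = ?xq9010 → (List (ℕ × ℕ × ℕ × List (ℕ × ℕ)))) ?hq9010; (case hq9010 => (set_option maxRecDepth 1000000 in set_option simprocs false in conv => lhs; reduce; dsimp only)); intro _; exact ?xq9010 : List (ℕ × ℕ × ℕ × List (ℕ × ℕ)))

set_option maxRecDepth 100000 in
/-- groups of the order of `Co3` -/
theorem all_co3 (T : OrderTable.{0})
    (hS : ∀ (S : Type) [Group S] [Finite S], IsSimpleGroup S → IsKnownSimple' S) :
    AllSimple.{u} 495766656000 :=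
  allSimple T hS (l := l_co3) (by decide +kernel) (by decide) (L := ords_co3) (by decide +kernel)
    (tr0 := [(3, 2), (5, 2), (23, 2), (7, 5), (11, 5)]) (by decide +kernel) (certs := certs_co3) (by decide +kernel)

def l_fi22 : List (ℕ × ℕ) := [(2, 17), (3, 9), (5, 2), (7, 1), (11, 1), (13, 1)]

def ords_fi22 : List ℕ := (beta% delta% lq261a5236b9 fun _ b c _ e _ _ _ _ _ _ _ _ _ _ _ _ _ _ _ _ _ _ _ _ _ _ _ _ _ _ _ _ _ _ _ _ _ _ _ _ _ _ _ _ _ _ _ _ =>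
 (let f:=(let f:=(let f:=(e 3113510400<|e 4585351680<|e 9196830720<|e 448345497600<|e 64561751654400<|c);
 (e 19958400<|e 42456960<|e 174182400<|e 239500800<|e 251596800<|f));
 (let f:=(e 3265920<|e 4245696<|e 6065280<|e 13685760<|e 17971200<|f);
 (e 443520<|e 604800<|e 1451520<|e 1814400<|f)));
 (let f:=(let f:=(e 29120<|e 62400<|e 95040<|e 181440<|e 262080<|f);
 (e 7800<|e 7920<|e 9828<|e 20160<|e 25920<|f));
 (let f:=(e 660<|e 1092<|e 2520<|e 5616<|e 6048<|f);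
 (b 60<|b 168<|b 360<|b 504<|f)))))

noncomputable def certs_fi22 : List (ℕ × ℕ × ℕ × List (ℕ × ℕ)) :=
  (by
  refine (?fq9011 : ((pk61l (fun i1 => (_root_.Prod.mk (pk61d (nat_lit 39) 
    (nat_lit 0xd0c6f2c0000890b20000088a7750000b9946600001dfe2000003919f80000530e800000287d7800002611500000448e000000686a0000005c8c8000008191800000c756000000dd7c00000162600000012750000001b120000001ffe0000002c4c0000002e680000003cf000000038e00000006540000000ca800000013b000000013320000001ef00000003cf00000005e80000000af800000009d800000008880000000a500000000fc000000016800000002d000000002a000000001e000000003c) i1) (_root_.Prod.mk (pk61d (nat_lit 2) 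
    (nat_lit 0x55555555555655555659) i1) (_root_.Prod.mk (nat_lit 0) (pk61l (fun i2 => (_root_.Prod.mk (pk61d (nat_lit 4) 
    (nat_lit 0xdb7353bd57d7b53db7353d7b53b7d537db53bd573b7d53db7535d7b3b75d35db73db7537db53db5737db53bd573bd573db573db753db753bd57db7533db753db57357bd35d7b3db7535d7b35bd73db57357bd35d7b35db7db7533db7535db7db7533db75) i2) (pk61d (nat_lit 4) 
    (nat_lit 0x333527d77255332333525bb525dd525b552775725dd5257552b7bb2dddd277b72777525b552777725b552bd7725757277772bb7525755277572555225555257772b7bd2b7bb257552b77b27dd725777277bd2b7bb2b77725552255552777725552255552) i2))) (Nat.mul (nat_lit 5) i1) (Nat.mul (nat_lit 5) (Nat.succ i1)) List.nil))))) (nat_lit 0) (nat_lit 40) List.nil) : List (ℕ × ℕ × ℕ × List (ℕ × ℕ)))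
    = ?xq9011 → (List (ℕ × ℕ × ℕ × List (ℕ × ℕ)))) ?hq9011; (case hq9011 => (set_option maxRecDepth 1000000 in set_option simprocs false in conv => lhs; reduce; dsimp only)); intro _; exact ?xq9011 : List (ℕ × ℕ × ℕ × List (ℕ × ℕ)))

set_option maxRecDepth 100000 in
/-- groups of the order of `Fi22` -/
theorem all_fi22 (T : OrderTable.{0})
    (hS : ∀ (S : Type) [Group S] [Finite S], IsSimpleGroup S → IsKnownSimple' S) :
    AllSimple.{u} 64561751654400 :=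
  allSimple T hS (l := l_fi22) (by decide +kernel) (by decide) (L := ords_fi22) (by (first | (rewrite [Cfsg.Agent.KOd6bd8d0.e1.{0}, Cfsg.Agent.KOd6bd8d0.e14, Cfsg.Agent.KOd6bd8d0.e15, Cfsg.Agent.KOd6bd8d0.e17]; decide +kernel) | decide +kernel))
    (tr0 := [(3, 2), (5, 2), (7, 5), (11, 5), (13, 5)]) (by decide +kernel) (certs := certs_fi22) (by (first | (rewrite [Cfsg.Agent.KOd6bd8d0.e1.{0}, Cfsg.Agent.KOd6bd8d0.e32]; decide +kernel) | decide +kernel))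

def l_fi23 : List (ℕ × ℕ) := (beta% delta% lq261a5236b9 fun a b c _ _ _ _ _ _ _ _ _ _ _ _ _ _ _ _ _ _ _ _ _ _ _ _ _ _ _ _ _ _ _ _ _ _ _ _ _ _ _ _ _ _ _ _ _ _ =>
 (b (a 2 18)<|b (a 3 13)<|b (a 5 2)<|b (a 7 1)<|b (a 11 1)<|b (a 13 1)<|b (a 17 1)<|b (a 23 1)<|c))

noncomputable def ords_fi23 : List ℕ :=
  (by
  refine (?fq9012 : ((pk61l (fun i1 => (pk61d (nat_lit 62) 
    (nat_lit 0xe302deea005000000003ab7f44600000000120413acc0000000068637960000000002c1fb400000000002242c800000000004453ba8000000000b99466000000000153eac00000000003ad4f000000000003bfc400000000000e97b400000000003919f80000000000bc43000000000002987400000000000287d7800000000004c22a0000000000112380000000000034350000000000009ba780000000000172320000000000040c8c00000000000c756000000000001baf8000000000005898000000000000ef100000000000024ea0000000000006c48000000000000fff0000000000002c4c0000000000005cd0000000000000f3c0000000000001c7000000000000065400000000000013b000000000000026640000000000007bc0000000000001e780000000000005ee00000000000017a000000000000057c0000000000000ff00000000000002760000000000000990000000000000111000000000000029400000000000007e000000000000016800000000000002a000000000000003c)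 i1)) (nat_lit 0) (nat_lit 50) List.nil) : List ℕ)
    = ?xq9012 → (List ℕ)) ?hq9012; (case hq9012 => (set_option maxRecDepth 1000000 in set_option simprocs false in conv => lhs; reduce; dsimp only)); intro _; exact ?xq9012 : List ℕ)

noncomputable def certs_fi23 : List (ℕ × ℕ × ℕ × List (ℕ × ℕ)) :=
  (by
  refine (?fq9013 : ((pk61l (fun i1 => (_root_.Prod.mk (pk61d (nat_lit 46) 
    (nat_lit 0xeadfd118000048104eb300001a18de5800000b07ed0000000890b20000001114eea000002e651980000054fab0000000eb53c0000000eff100000003a5ed0000000e467e0000002f10c0000000a61d00000000a1f5e0000001308a8000000448e00000000d0d4000000026e9e00000005c8c800000010323000000031d5800000006ebe00000001626000000003bc40000000093a800000001b12000000003ffc00000000b13000000001734000000003cf00000000071c000000001950000000006540000000013b0000000002664000000007bc000000001e78000000005ee0000000017a00000000057c000000000ff000000000276000000000990000000001110000000002940000000007e0000000001680000000005a0000000000a80000000000f00000000003c)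 i1) (_root_.Prod.mk (pk61d (nat_lit 2) 
    (nat_lit 0x55555555555555559555555659) i1) (_root_.Prod.mk (nat_lit 0) (pk61l (fun i2 => (_root_.Prod.mk (pk61d (nat_lit 5) 
    (nat_lit 0x5e2d59ca3) (pk61d (nat_lit 3) 
    (nat_lit 0x11ac688b56446b522e85a0f5850d5c2846b522c5991568c88b5643b3141ad611a3a505ac646ae141ad611356883ac4c3b3143568c066a98d63282d632358d11746885ac643d614357111ac6883ac4c4d5a235711d63440d63446b1a20ea9c0758989ab441b3260eb13075710d1a346b1a20e8d50754e03ac4c1d627ac6881ac6883ac4f58d10358d1) i2)) (pk61d (nat_lit 5) 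
    (nat_lit 0x2c6312c44b5aca5288b18c4a5115652ace25b4e739c4739ce5388b18c4a51156b594a22ad65294455aca5288ed39ca7115ad294a239ce729c45594a5288a739ca7115ad294a229ca52944b3ad6b588ed39ca7115ad6b5a259d673ac4539ce7388ab294a511ce739ca229ca529445594a5288ed39ce711ce7394a239ce7394453ad6b588a7294a5114e7394a2294a528845294a5288e739ce511ce73ada259d6b5ac45394a52896b5aceb11ce739d623b5ad69c518c631888e739ce5146318c62259ce75b44b3ad6b588e739ceb114a529442294a52944b39ce7588a5294a2114a5294a2) i2))) (Nat.mul (nat_lit 7) i1) (Nat.mul (nat_lit 7) (Nat.succ i1)) List.nil))))) (nat_lit 0) (nat_lit 52) List.nil) : List (ℕ × ℕ × ℕ × List (ℕ × ℕ)))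
    = ?xq9013 → (List (ℕ × ℕ × ℕ × List (ℕ × ℕ)))) ?hq9013; (case hq9013 => (set_option maxRecDepth 1000000 in set_option simprocs false in conv => lhs; reduce; dsimp only)); intro _; exact ?xq9013 : List (ℕ × ℕ × ℕ × List (ℕ × ℕ)))

set_option maxRecDepth 100000 in
/-- groups of the order of `Fi23` -/
theorem all_fi23 (T : OrderTable.{0})
    (hS : ∀ (S : Type) [Group S] [Finite S], IsSimpleGroup S → IsKnownSimple' S) :
    AllSimple.{u} 4089470473293004800 :=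
  allSimple T hS (l := l_fi23) (by decide +kernel) (by decide) (L := ords_fi23) (by (first | (rewrite [Cfsg.Agent.KOd6bd8d0.e1.{0}, Cfsg.Agent.KOd6bd8d0.e14, Cfsg.Agent.KOd6bd8d0.e15, Cfsg.Agent.KOd6bd8d0.e17]; decide +kernel) | decide +kernel))
    (tr0 := (beta% delta% lq261a5236b9 fun a b c _ _ _ _ _ _ _ _ _ _ _ _ _ _ _ _ _ _ _ _ _ _ _ _ _ _ _ _ _ _ _ _ _ _ _ _ _ _ _ _ _ _ _ _ _ _ =>
 (b (a 3 2)<|b (a 5 2)<|b (a 17 3)<|b (a 7 5)<|b (a 11 5)<|b (a 13 5)<|b (a 23 5)<|c))) (by decide +kernel) (certs := certs_fi23) (by (first | (rewrite [Cfsg.Agent.KOd6bd8d0.e1.{0}, Cfsg.Agent.KOd6bd8d0.e32]; decide +kernel) | decide +kernel))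

def l_fi24p : List (ℕ × ℕ) := (beta% delta% lq261a5236b9 fun a b c _ _ _ _ _ _ _ _ _ _ _ _ _ _ _ _ _ _ _ _ _ _ _ _ _ _ _ _ _ _ _ _ _ _ _ _ _ _ _ _ _ _ _ _ _ _ =>
 (b (a 2 21)<|b (a 3 16)<|b (a 5 2)<|b (a 7 3)<|b (a 11 1)<|b (a 13 1)<|b (a 17 1)<|b (a 23 1)<|b (a 29 1)<|c))

def ords_fi24p : List ℕ := (beta% delta% lq261a5236b9 fun _ b c _ e _ _ _ _ _ _ _ _ _ _ _ _ _ _ _ _ _ _ _ _ _ _ _ _ _ _ _ _ _ _ _ _ _ _ _ _ _ _ _ _ _ _ _ _ =>
 (let f:=(let f:=(let f:=(let f:=(e 25015379558400<|e 64561751654400<|e 4089470473293004800<|e 1255205709190661721292800<|c);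
 (e 43589145600<|e 47377612800<|e 448345497600<|e 4952179814400<|f));
 (e 987033600<|e 1056706560<|e 1425715200<|e 3113510400<|e 4030387200<|e 4585351680<|e 9196830720<|f));
 (let f:=(e 42456960<|e 174182400<|e 197406720<|e 211341312<|e 239500800<|e 244823040<|e 251596800<|f);
 (e 3265920<|e 4245696<|e 6065280<|e 10200960<|e 13685760<|e 17971200<|e 19958400<|f)));
 (let f:=(let f:=(let f:=(e 604800<|e 979200<|e 1451520<|e 1814400<|f);
 (e 95040<|e 181440<|e 262080<|e 443520<|f));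
 (e 9828<|e 12180<|e 20160<|e 25920<|e 29120<|e 58800<|e 62400<|f));
 (let f:=(e 2520<|e 4080<|e 5616<|e 6048<|e 6072<|e 7800<|e 7920<|f);
 (b 60<|b 168<|b 360<|b 504<|b 660<|b 1092<|b 2448<|f)))))

noncomputable def certs_fi24p : List (ℕ × ℕ × ℕ × List (ℕ × ℕ)) :=
  let y0 : List (ℕ × ℕ × ℕ × List (ℕ × ℕ)) := (by
  refine (?fq9015 : (pk61l (fun i0 => (_root_.Prod.mk (pk61d (nat_lit 62) 
    (nat_lit 0x38c0b7ba801400000000eadfd118000000016c058d00000) i0) (_root_.Prod.mk (nat_lit 1) (_root_.Prod.mk (nat_lit 0) (pk61l (fun i1 => (_root_.Prod.mk (pk61d (nat_lit 5) 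
    (nat_lit 0x19ef1697ab19dabede2519e2bedcad) i1) (pk61d (nat_lit 5) 
    (nat_lit 0x297bdef56229631294a2295ad295a2) i1))) (Nat.mul (nat_lit 8) i0) (Nat.mul (nat_lit 8) (Nat.succ i0)) List.nil))))) (nat_lit 0) (nat_lit 3) List.nil : List (ℕ × ℕ × ℕ × List (ℕ × ℕ)))
    = ?xq9015 → (List (ℕ × ℕ × ℕ × List (ℕ × ℕ)))) ?hq9015; (case hq9015 => (set_option maxRecDepth 1000000 in set_option simprocs false in conv => lhs; reduce; dsimp only)); intro _; exact ?xq9015 : List (ℕ × ℕ × ℕ × List (ℕ × ℕ)))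
  let y1 : List (ℕ × ℕ × ℕ × List (ℕ × ℕ)) := (by
  refine (?fq9016 : (fun tl : List (ℕ × ℕ × ℕ × List (ℕ × ℕ)) => pk61l (fun i0 => (_root_.Prod.mk (pk61d (nat_lit 43) 
    (nat_lit 0x24082759800068637960000160fda0000028987650000112164000001114eea00001e075a800002e6519800002a7d58000003efc100000075a9e0000003bfc400000074bda000000e467e000001931a0000002f10c000000530e8000000287d780000026115000000448e0000000686a00000009ba78000000b9190000001032300000018eac00000031d58000000375f000000058980000000b1300000000ef10000000127500000001b1200000001ffe00000002c4c0) i0) (_root_.Prod.mk (pk61d (nat_lit 2) 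
    (nat_lit 0x55555555555596556) i0) (_root_.Prod.mk (nat_lit 0) (pk61l (fun i1 => (_root_.Prod.mk (pk61d (nat_lit 5) 
    (nat_lit 0xede2d59ca3) (pk61d (nat_lit 3) 
    (nat_lit 0xa7d590a3fa90afd1911fd51057d630beae1157d190a3fa90acf991f568c0afd190a7d5908ef6309fd6107ead40be8e90beb190beae109fd610a7d590beae108ef630beae108fd5cfac6880beb190beb19fac6880beb190afd190beb19057d630beaccfac688) i1)) (pk61d (nat_lit 5) 
    (nat_lit 0x5e2d59ca2) (pk61d (nat_lit 3) 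
    (nat_lit 0x25924826d24825924829124831b6d83249082d924826d24825b2483249202592482592486f46d8261248524920b6db482492483249082612482592486db7086f46d832490872492024920024924824924824920024924825924824924871b6d8924920249200) i1)))) (Nat.mul (nat_lit 8) i0) (Nat.mul (nat_lit 8) (Nat.succ i0)) List.nil))))) (nat_lit 0) (nat_lit 34) tl)
    = ?xq9016 → (List (ℕ × ℕ × ℕ × List (ℕ × ℕ)))) ?hq9016; (case hq9016 => (set_option maxRecDepth 1000000 in set_option simprocs false in conv => lhs; reduce; dsimp only)); intro _; exact ?xq9016 y0 : List (ℕ × ℕ × ℕ × List (ℕ × ℕ)))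
  (by
  refine (?fq9017 : (fun tl : List (ℕ × ℕ × ℕ × List (ℕ × ℕ)) => pk61l (fun i0 => (_root_.Prod.mk (pk61d (nat_lit 18) 
    (nat_lit 0xb130173403cf00e5b01c7006540195004ec013b002f94099901ef0079e017b805e8017a005e8015f003fc009d8027600990011100294007e001f8007e00168005a000a8002a000a8000f0003c) i0) (_root_.Prod.mk (pk61d (nat_lit 2) 
    (nat_lit 0x5566555e5655e6799) i0) (_root_.Prod.mk (nat_lit 0) (pk61l (fun i1 => (_root_.Prod.mk (pk61d (nat_lit 5) 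
    (nat_lit 0xede2d59ca3) (pk61d (nat_lit 3) 
    (nat_lit 0xbeb1908fd630a7d591f58d10beacc5f58c80beb19fac6880beb190b58cf08fd5c08fd630a7d5908ef633f58d03f58d007eb1308fd5c0be8e9fac6880beb1908fd2b08fd5c08fd633f58d03f58d007eb135f58c80beb193f58d03f58d007eb135f58c80beb19) i1)) (pk61d (nat_lit 5) 
    (nat_lit 0xede2d59ca2) (pk61d (nat_lit 3) 
    (nat_lit 0x2492486e36d8259248249248524920249240249248249200249248fffff87249206e36d8259248cdc6d8492480492480692498724920b6db48249200249248b6db587249202e36d8492480492480692498249240249248492480492480692498249240249248) i1)))) (Nat.mul (nat_lit 8) i0) (Nat.mul (nat_lit 8) (Nat.succ i0)) List.nil))))) (nat_lit 0) (nat_lit 34) tl)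
    = ?xq9017 → (List (ℕ × ℕ × ℕ × List (ℕ × ℕ)))) ?hq9017; (case hq9017 => (set_option maxRecDepth 1000000 in set_option simprocs false in conv => lhs; reduce; dsimp only)); intro _; exact ?xq9017 y1 : List (ℕ × ℕ × ℕ × List (ℕ × ℕ)))

set_option maxRecDepth 100000 in
/-- groups of the order of `Fi24'` -/
theorem all_fi24p (T : OrderTable.{0})
    (hS : ∀ (S : Type) [Group S] [Finite S], IsSimpleGroup S → IsKnownSimple' S) :
    AllSimple.{u} 1255205709190661721292800 :=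
  allSimple T hS (l := l_fi24p) (by decide +kernel) (by decide) (L := ords_fi24p) (by (first | (rewrite [Cfsg.Agent.KOd6bd8d0.e1.{0}, Cfsg.Agent.KOd6bd8d0.e14, Cfsg.Agent.KOd6bd8d0.e15, Cfsg.Agent.KOd6bd8d0.e17]; decide +kernel) | decide +kernel))
    (tr0 := (beta% delta% lq261a5236b9 fun a b c _ _ _ _ _ _ _ _ _ _ _ _ _ _ _ _ _ _ _ _ _ _ _ _ _ _ _ _ _ _ _ _ _ _ _ _ _ _ _ _ _ _ _ _ _ _ =>
 (b (a 3 2)<|b (a 7 2)<|b (a 29 2)<|b (a 5 3)<|b (a 11 5)<|b (a 13 5)<|b (a 17 5)<|b (a 23 5)<|c))) (by decide +kernel) (certs := certs_fi24p) (by (first | (rewrite [Cfsg.Agent.KOd6bd8d0.e1.{0}, Cfsg.Agent.KOd6bd8d0.e32]; decide +kernel) | decide +kernel))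

def l_hs : List (ℕ × ℕ) := [(2, 9), (3, 2), (5, 3), (7, 1), (11, 1)]

def ords_hs : List ℕ := [60, 168, 360, 504, 660, 2520, 7920, 20160, 126000, 443520, 44352000]

noncomputable def certs_hs : List (ℕ × ℕ × ℕ × List (ℕ × ℕ)) :=
  (by
  refine (?fq9018 : ((pk61l (fun i1 => (_root_.Prod.mk (pk61d (nat_lit 19) 
    (nat_lit 0x1b1200f61804ec003de002760014a001f8002d0002a0001e0003c) i1) (_root_.Prod.mk (pk61d (nat_lit 2) 
    (nat_lit 0x155559) i1) (_root_.Prod.mk (nat_lit 0) (pk61l (fun i2 => (_root_.Prod.mk (pk61d (nat_lit 4) 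
    (nat_lit 0x35b775b353b75b73573b573b573b573b57b3b7535b37) i2) (pk61d (nat_lit 4) 
    (nat_lit 0x5722bb323b7237323bb2bbb23bb233b27b3233223372) i2))) (Nat.mul (nat_lit 4) i1) (Nat.mul (nat_lit 4) (Nat.succ i1)) List.nil))))) (nat_lit 0) (nat_lit 11) List.nil) : List (ℕ × ℕ × ℕ × List (ℕ × ℕ)))
    = ?xq9018 → (List (ℕ × ℕ × ℕ × List (ℕ × ℕ)))) ?hq9018; (case hq9018 => (set_option maxRecDepth 1000000 in set_option simprocs false in conv => lhs; reduce; dsimp only)); intro _; exact ?xq9018 : List (ℕ × ℕ × ℕ × List (ℕ × ℕ)))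

set_option maxRecDepth 100000 in
/-- groups of the order of `HS` -/
theorem all_hs (T : OrderTable.{0})
    (hS : ∀ (S : Type) [Group S] [Finite S], IsSimpleGroup S → IsKnownSimple' S) :
    AllSimple.{u} 44352000 :=
  allSimple T hS (l := l_hs) (by decide +kernel) (by decide) (L := ords_hs) (by decide +kernel)
    (tr0 := [(5, 2), (11, 2), (3, 5), (7, 3)]) (by decide +kernel) (certs := certs_hs) (by decide +kernel)

def l_mcl : List (ℕ × ℕ) := [(2, 7), (3, 6), (5, 3), (7, 1), (11, 1)]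

def ords_mcl : List ℕ := (beta% delta% lq261a5236b9 fun _ b c _ _ _ _ _ _ _ _ _ _ _ _ _ _ _ _ _ _ _ _ _ _ _ _ _ _ _ _ _ _ _ _ _ _ _ _ _ _ _ _ _ _ _ _ _ _ =>
 (b 60<|b 168<|b 360<|b 504<|b 660<|b 2520<|b 6048<|b 7920<|b 20160<|b 25920<|b 95040<|b 126000<|b 181440<|b 443520<|b 604800<|b 1814400<|b 3265920<|b 19958400<|b 898128000<|c))

noncomputable def certs_mcl : List (ℕ × ℕ × ℕ × List (ℕ × ℕ)) :=
  (by
  refine (?fq9019 : ((pk61l (fun i1 => (_root_.Prod.mk (pk61d (nat_lit 25) 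
    (nat_lit 0x1308a8018eac006ebe0012750006c480016260007b0c002e6800065400027600007bc0002f400009d800014a00007e00002d000016800005400000f000007800003c) i1) (_root_.Prod.mk (pk61d (nat_lit 2) 
    (nat_lit 0x15555555979) i1) (_root_.Prod.mk (nat_lit 0) (pk61l (fun i2 => (_root_.Prod.mk (pk61d (nat_lit 4) 
    (nat_lit 0xb375573b37b537b53b75537b37b537b5735b357b357b53b735b7357b357b7b53375b357bb753b7533b57) i2) (pk61d (nat_lit 4) 
    (nat_lit 0x32522bb225222522255277b25b52bb523b2277b2bbb2777277727bb277b2522275b277b2552255227572) i2))) (Nat.mul (nat_lit 4) i1) (Nat.mul (nat_lit 4) (Nat.succ i1)) List.nil))))) (nat_lit 0) (nat_lit 21) List.nil) : List (ℕ × ℕ × ℕ × List (ℕ × ℕ)))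
    = ?xq9019 → (List (ℕ × ℕ × ℕ × List (ℕ × ℕ)))) ?hq9019; (case hq9019 => (set_option maxRecDepth 1000000 in set_option simprocs false in conv => lhs; reduce; dsimp only)); intro _; exact ?xq9019 : List (ℕ × ℕ × ℕ × List (ℕ × ℕ)))

set_option maxRecDepth 100000 in
/-- groups of the order of `McL` -/
theorem all_mcl (T : OrderTable.{0})
    (hS : ∀ (S : Type) [Group S] [Finite S], IsSimpleGroup S → IsKnownSimple' S) :
    AllSimple.{u} 898128000 :=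
  allSimple T hS (l := l_mcl) (by decide +kernel) (by decide) (L := ords_mcl) (by decide +kernel)
    (tr0 := [(3, 2), (5, 2), (11, 2), (7, 5)]) (by decide +kernel) (certs := certs_mcl) (by decide +kernel)

def l_he : List (ℕ × ℕ) := [(2, 10), (3, 3), (5, 2), (7, 3), (17, 1)]

def ords_he : List ℕ := (beta% delta% lq261a5236b9 fun _ b c _ _ _ _ _ _ _ _ _ _ _ _ _ _ _ _ _ _ _ _ _ _ _ _ _ _ _ _ _ _ _ _ _ _ _ _ _ _ _ _ _ _ _ _ _ _ =>
 (b 60<|b 168<|b 360<|b 504<|b 2448<|b 2520<|b 4080<|b 6048<|b 20160<|b 58800<|b 604800<|b 979200<|b 4030387200<|c))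

noncomputable def certs_he : List (ℕ × ℕ × ℕ × List (ℕ × ℕ)) :=
  (by
  refine (?fq9020 : ((pk61l (fun i1 => (_root_.Prod.mk (pk61d (nat_lit 20) 
    (nat_lit 0xef10093a800e5b004ec0017a000ff0009d800990001f800168000a8000a8000a80003c0003c) i1) (_root_.Prod.mk (pk61d (nat_lit 2) 
    (nat_lit 0x15555799) i1) (_root_.Prod.mk (nat_lit 0) (pk61l (fun i2 => (_root_.Prod.mk (pk61d (nat_lit 5) 
    (nat_lit 0x1c4a7396231c4e53c4a33962338cb13c4a339471396233c4a32c4e32c4e329c713c4a338e25) i2) (pk61d (nat_lit 5) 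
    (nat_lit 0x89ce21c462294a218c6218c628c62218c628c62218c6218c6218c4218c421c62229442294a2) i2))) (Nat.mul (nat_lit 4) i1) (Nat.mul (nat_lit 4) (Nat.succ i1)) List.nil))))) (nat_lit 0) (nat_lit 15) List.nil) : List (ℕ × ℕ × ℕ × List (ℕ × ℕ)))
    = ?xq9020 → (List (ℕ × ℕ × ℕ × List (ℕ × ℕ)))) ?hq9020; (case hq9020 => (set_option maxRecDepth 1000000 in set_option simprocs false in conv => lhs; reduce; dsimp only)); intro _; exact ?xq9020 : List (ℕ × ℕ × ℕ × List (ℕ × ℕ)))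

set_option maxRecDepth 100000 in
/-- groups of the order of `He` -/
theorem all_he (T : OrderTable.{0})
    (hS : ∀ (S : Type) [Group S] [Finite S], IsSimpleGroup S → IsKnownSimple' S) :
    AllSimple.{u} 4030387200 :=
  allSimple T hS (l := l_he) (by decide +kernel) (by decide) (L := ords_he) (by (first | (rewrite [Cfsg.Agent.KOd6bd8d0.e1.{0}, Cfsg.Agent.KOd6bd8d0.e14, Cfsg.Agent.KOd6bd8d0.e15, Cfsg.Agent.KOd6bd8d0.e17]; decide +kernel) | decide +kernel))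
    (tr0 := [(3, 2), (5, 2), (7, 2), (17, 3)]) (by decide +kernel) (certs := certs_he) (by decide +kernel)

def l_ru : List (ℕ × ℕ) := [(2, 14), (3, 3), (5, 3), (7, 1), (13, 1), (29, 1)]

def ords_ru : List ℕ := (beta% delta% lq261a5236b9 fun _ b c _ _ _ _ _ _ _ _ _ _ _ _ _ _ _ _ _ _ _ _ _ _ _ _ _ _ _ _ _ _ _ _ _ _ _ _ _ _ _ _ _ _ _ _ _ _ =>
 (b 60<|b 168<|b 360<|b 504<|b 1092<|b 2520<|b 5616<|b 6048<|b 7800<|b 9828<|b 12180<|b 20160<|b 29120<|b 62400<|b 126000<|b 262080<|b 604800<|b 17971200<|b 251596800<|b 145926144000<|c))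

noncomputable def certs_ru : List (ℕ × ℕ × ℕ × List (ℕ × ℕ)) :=
  (by
  refine (?fq9021 : ((pk61l (fun i1 => (_root_.Prod.mk (pk61d (nat_lit 28) 
    (nat_lit 0xeff100011238000093a80003ffc0001ec30000f3c000071c00004ec00002f9400026640001e7800017a000015f000009d8000044400001f8000016800000a8000003c000003c000003c) i1) (_root_.Prod.mk (pk61d (nat_lit 2) 
    (nat_lit 0x15555555579) i1) (_root_.Prod.mk (nat_lit 0) (pk61l (fun i2 => (_root_.Prod.mk (pk61d (nat_lit 5) 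
    (nat_lit 0xd3f4a36f4e51b4fd28c656f4e7eb4651f4e568cade9c65eb4e51f5a72b4fd18fa72b4ad3f4656f4e3197ad3946d3f4a3eb4e5eb4e328fad3b7a728fad39465eb467) i2) (pk61d (nat_lit 5) 
    (nat_lit 0x528c6228c6311ca318ba7e9c4d294a26b5ad11cfd389a739c473b4e21f7a3135ad68867e8c4338c6269ce711cfde88ed39c4318c6239ce711463108631884718ce2) i2))) (Nat.mul (nat_lit 5) i1) (Nat.mul (nat_lit 5) (Nat.succ i1)) List.nil))))) (nat_lit 0) (nat_lit 21) List.nil) : List (ℕ × ℕ × ℕ × List (ℕ × ℕ)))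
    = ?xq9021 → (List (ℕ × ℕ × ℕ × List (ℕ × ℕ)))) ?hq9021; (case hq9021 => (set_option maxRecDepth 1000000 in set_option simprocs false in conv => lhs; reduce; dsimp only)); intro _; exact ?xq9021 : List (ℕ × ℕ × ℕ × List (ℕ × ℕ)))

set_option maxRecDepth 100000 in
/-- groups of the order of `Ru` -/
theorem all_ru (T : OrderTable.{0})
    (hS : ∀ (S : Type) [Group S] [Finite S], IsSimpleGroup S → IsKnownSimple' S) :
    AllSimple.{u} 145926144000 :=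
  allSimple T hS (l := l_ru) (by decide +kernel) (by decide) (L := ords_ru) (by (first | (rewrite [Cfsg.Agent.KOd6bd8d0.e1.{0}, Cfsg.Agent.KOd6bd8d0.e14, Cfsg.Agent.KOd6bd8d0.e15, Cfsg.Agent.KOd6bd8d0.e17]; decide +kernel) | decide +kernel))
    (tr0 := [(3, 2), (5, 2), (29, 2), (7, 3), (13, 5)]) (by decide +kernel) (certs := certs_ru) (by decide +kernel)

def l_suz : List (ℕ × ℕ) := [(2, 13), (3, 7), (5, 2), (7, 1), (11, 1), (13, 1)]

def ords_suz : List ℕ := (beta% delta% lq261a5236b9 fun _ b c _ e _ _ _ _ _ _ _ _ _ _ _ _ _ _ _ _ _ _ _ _ _ _ _ _ _ _ _ _ _ _ _ _ _ _ _ _ _ _ _ _ _ _ _ _ =>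
 (let f:=(let f:=(let f:=(e 174182400<|e 239500800<|e 251596800<|e 3113510400<|e 448345497600<|c);
 (e 13685760<|e 17971200<|e 19958400<|e 42456960<|f));
 (let f:=(e 1451520<|e 1814400<|e 3265920<|e 4245696<|e 6065280<|f);
 (e 181440<|e 262080<|e 443520<|e 604800<|f)));
 (let f:=(let f:=(e 20160<|e 25920<|e 29120<|e 62400<|e 95040<|f);
 (e 6048<|e 7800<|e 7920<|e 9828<|f));
 (let f:=(e 660<|e 1092<|e 2520<|e 5616<|f);
 (b 60<|b 168<|b 360<|b 504<|f)))))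

noncomputable def certs_suz : List (ℕ × ℕ × ℕ × List (ℕ × ℕ)) :=
  (by
  refine (?fq9022 : ((pk61l (fun i1 => (_root_.Prod.mk (pk61d (nat_lit 32) 
    (nat_lit 0xb99466000eff10000e467e000a61d0000287d78001308a800112380000d0d400005c8c800040c8c00031d580001baf800016260000093a800006c4800003ffc00002c4c0000173400000f3c0000071c00000654000004ec00000266400001ef000001e78000017a0000015f0000009d80000044400000294000001f80000016800000168000000a80000003c0000003c) i1) (_root_.Prod.mk (pk61d (nat_lit 2) 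
    (nat_lit 0x555555555555555659) i1) (_root_.Prod.mk (nat_lit 0) (pk61l (fun i2 => (_root_.Prod.mk (pk61d (nat_lit 4) 
    (nat_lit 0xdb7353d75b3b7d537d5b3bd573b7d53db5753d7b3b75d35db7db75337db53db5737db53bd573bd573db7535d7b3db753bd573db753db7535db735d7b3db7535db735b7d3db7535db73db7535d7bdb7533db7535d7bdb7533db75) i2) (pk61d (nat_lit 4) 
    (nat_lit 0x333525bbb25dd525b5b2575725dd52575727bbb25ddd2b7b72775325b552777725b5527d7727757277752b7bb25755257572555527775277b7257bb257552777727ddd277752b7b72bb752777b25552255552b77b25552255552) i2))) (Nat.mul (nat_lit 5) i1) (Nat.mul (nat_lit 5) (Nat.succ i1)) List.nil))))) (nat_lit 0) (nat_lit 36) List.nil) : List (ℕ × ℕ × ℕ × List (ℕ × ℕ)))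
    = ?xq9022 → (List (ℕ × ℕ × ℕ × List (ℕ × ℕ)))) ?hq9022; (case hq9022 => (set_option maxRecDepth 1000000 in set_option simprocs false in conv => lhs; reduce; dsimp only)); intro _; exact ?xq9022 : List (ℕ × ℕ × ℕ × List (ℕ × ℕ)))

set_option maxRecDepth 100000 in
/-- groups of the order of `Suz` -/
theorem all_suz (T : OrderTable.{0})
    (hS : ∀ (S : Type) [Group S] [Finite S], IsSimpleGroup S → IsKnownSimple' S) :
    AllSimple.{u} 448345497600 :=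
  allSimple T hS (l := l_suz) (by decide +kernel) (by decide) (L := ords_suz) (by (first | (rewrite [Cfsg.Agent.KOd6bd8d0.e1.{0}, Cfsg.Agent.KOd6bd8d0.e14, Cfsg.Agent.KOd6bd8d0.e15, Cfsg.Agent.KOd6bd8d0.e17]; decide +kernel) | decide +kernel))
    (tr0 := [(3, 2), (5, 2), (7, 5), (11, 5), (13, 5)]) (by decide +kernel) (certs := certs_suz) (by (first | (rewrite [Cfsg.Agent.KOd6bd8d0.e1.{0}, Cfsg.Agent.KOd6bd8d0.e32]; decide +kernel) | decide +kernel))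

def l_opn : List (ℕ × ℕ) := (beta% delta% lq261a5236b9 fun a b c _ _ _ _ _ _ _ _ _ _ _ _ _ _ _ _ _ _ _ _ _ _ _ _ _ _ _ _ _ _ _ _ _ _ _ _ _ _ _ _ _ _ _ _ _ _ =>
 (b (a 2 9)<|b (a 3 4)<|b (a 5 1)<|b (a 7 3)<|b (a 11 1)<|b (a 19 1)<|b (a 31 1)<|c))

def ords_opn : List ℕ := (beta% delta% lq261a5236b9 fun _ b c _ _ _ _ _ _ _ _ _ _ _ _ _ _ _ _ _ _ _ _ _ _ _ _ _ _ _ _ _ _ _ _ _ _ _ _ _ _ _ _ _ _ _ _ _ _ =>
 (b 60<|b 168<|b 360<|b 504<|b 660<|b 2520<|b 3420<|b 6048<|b 7920<|b 14880<|b 20160<|b 25920<|b 32736<|b 95040<|b 175560<|b 181440<|b 443520<|b 1451520<|b 1876896<|b 5515776<|b 460815505920<|c))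

noncomputable def certs_opn : List (ℕ × ℕ × ℕ × List (ℕ × ℕ)) :=
  (by
  refine (?fq9023 : ((pk61l (fun i1 => (_root_.Prod.mk (pk61d (nat_lit 23) 
    (nat_lit 0x150a800e51d01626000d89000b1300156e401734000ffc001950002760003a20003de0005e80006ae0009d80005280007e0000fc0001680001500002a00005400003c) i1) (_root_.Prod.mk (pk61d (nat_lit 2) 
    (nat_lit 0x1555555565e5) i1) (_root_.Prod.mk (nat_lit 0) (pk61l (fun i2 => (_root_.Prod.mk (pk61d (nat_lit 5) 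
    (nat_lit 0xf31fd651fd7329ce51fe6b38fe59acff98d6519e6bf94ff9ac6529c7f9acff98d6538ff3594e3fcd6538d7f994ff9aca338e7f594e3fccab38d7f994bf9ace33fe6b197e71ccabfcd6538ff3594e31fe6b397e71cd65) i2) (pk61d (nat_lit 5) 
    (nat_lit 0x455884229ce53884b58842294b3588631aca2297ff288a528ca21ad73588631aca2294a5288a5594a2296652886318c6229565288a52956229665288e318c4228c63288652956210842108e739c4229ce728865294a2) i2))) (Nat.mul (nat_lit 6) i1) (Nat.mul (nat_lit 6) (Nat.succ i1)) List.nil))))) (nat_lit 0) (nat_lit 23) List.nil) : List (ℕ × ℕ × ℕ × List (ℕ × ℕ)))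
    = ?xq9023 → (List (ℕ × ℕ × ℕ × List (ℕ × ℕ)))) ?hq9023; (case hq9023 => (set_option maxRecDepth 1000000 in set_option simprocs false in conv => lhs; reduce; dsimp only)); intro _; exact ?xq9023 : List (ℕ × ℕ × ℕ × List (ℕ × ℕ)))

set_option maxRecDepth 100000 in
/-- groups of the order of `O'N` -/
theorem all_opn (T : OrderTable.{0})
    (hS : ∀ (S : Type) [Group S] [Finite S], IsSimpleGroup S → IsKnownSimple' S) :
    AllSimple.{u} 460815505920 :=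
  allSimple T hS (l := l_opn) (by decide +kernel) (by decide) (L := ords_opn) (by (first | (rewrite [Cfsg.Agent.KOd6bd8d0.e1.{0}, Cfsg.Agent.KOd6bd8d0.e14, Cfsg.Agent.KOd6bd8d0.e15, Cfsg.Agent.KOd6bd8d0.e17]; decide +kernel) | decide +kernel))
    (tr0 := [(3, 2), (7, 2), (11, 2), (19, 2), (31, 3), (5, 7)]) (by decide +kernel) (certs := certs_opn) (by decide +kernel)

def l_hn : List (ℕ × ℕ) := [(2, 14), (3, 6), (5, 6), (7, 1), (11, 1), (19, 1)]

def ords_hn : List ℕ := (beta% delta% lq261a5236b9 fun _ b c _ _ _ _ _ _ _ _ _ _ _ _ _ _ _ _ _ _ _ _ _ _ _ _ _ _ _ _ _ _ _ _ _ _ _ _ _ _ _ _ _ _ _ _ _ _ =>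
 (b 60<|b 168<|b 360<|b 504<|b 660<|b 2520<|b 3420<|b 6048<|b 7920<|b 20160<|b 25920<|b 95040<|b 126000<|b 175560<|b 181440<|b 443520<|b 604800<|b 1451520<|b 1814400<|b 3265920<|b 5515776<|b 13685760<|b 19958400<|b 44352000<|b 174182400<|b 239500800<|b 898128000<|b 273030912000000<|c))

noncomputable def certs_hn : List (ℕ × ℕ × ℕ × List (ℕ × ℕ)) :=
  (by
  refine (?fq9024 : ((pk61l (fun i1 => (_root_.Prod.mk (pk61d (nat_lit 30) 
    (nat_lit 0xd6216200e467e00298740002a4c20004c22a000d0d4000150a800031d580006ebe0001626000024ea00006c480000b1300002adc80007b0c00017340000195000004ec000007bc000017a00000357000009d800000a5000001f8000005a00000168000005a000000a8000000f0000003c000000f0000003c000000f0000003c) i1) (_root_.Prod.mk (pk61d (nat_lit 3) 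
    (nat_lit 0x924924924924924925a2758d1) i1) (_root_.Prod.mk (pk61d (nat_lit 4) 
    (nat_lit 0x7b0000) i1) ((fun g1 : Nat → Nat => pk61l (fun i2 => (_root_.Prod.mk (pk61d (nat_lit 5) 
    (nat_lit 0x2acf31946b99ca39ace32ae6728d73396671aca39ace53cd6328e675947359ca399d651ae6728e6b3966b19c6599d651cceb2cce35947359ca39ace51cceb28d679947359ca399d651cd673cd651cd6728cb338d651cd679aca399ca39ace51cd6728e6b394659ac67) i2) (pk61d (nat_lit 5) 
    (nat_lit 0x1ce6311d73388f339c473cce239e6710d6b588e759c4358c6239ceb11ce7388e73ac473cce239ce711c63388e73ac475ad6238c6b11ce7388eb59c4339d629ce7311ce7388e75ac4339ce228c6210c63108e31ac4339ce218c4218c4218c6210c63108631884718ce2) i2))) (g1 i1) (g1 (Nat.succ i1)) List.nil) fun j => (pk61d (nat_lit 8) 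
    (nat_lit 0xa8a39e99948f8a85807b76716c67625d58534e49443f3a35302b26211c18140f0a0500) j)))))) (nat_lit 0) (nat_lit 34) List.nil) : List (ℕ × ℕ × ℕ × List (ℕ × ℕ)))
    = ?xq9024 → (List (ℕ × ℕ × ℕ × List (ℕ × ℕ)))) ?hq9024; (case hq9024 => (set_option maxRecDepth 1000000 in set_option simprocs false in conv => lhs; reduce; dsimp only)); intro _; exact ?xq9024 : List (ℕ × ℕ × ℕ × List (ℕ × ℕ)))

set_option maxRecDepth 100000 in
/-- groups of the order of `HN` -/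
theorem all_hn (T : OrderTable.{0})
    (hS : ∀ (S : Type) [Group S] [Finite S], IsSimpleGroup S → IsKnownSimple' S) :
    AllSimple.{u} 273030912000000 :=
  allSimple T hS (l := l_hn) (by decide +kernel) (by decide) (L := ords_hn) (by (first | (rewrite [Cfsg.Agent.KOd6bd8d0.e1.{0}, Cfsg.Agent.KOd6bd8d0.e14, Cfsg.Agent.KOd6bd8d0.e15, Cfsg.Agent.KOd6bd8d0.e17]; decide +kernel) | decide +kernel))
    (tr0 := [(3, 2), (5, 2), (19, 2), (7, 19), (11, 7)]) (by decide +kernel) (certs := certs_hn) (by (first | (rewrite [Cfsg.Agent.KOd6bd8d0.e1.{0}, Cfsg.Agent.KOd6bd8d0.e32]; decide +kernel) | decide +kernel))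

def l_ly : List (ℕ × ℕ) := (beta% delta% lq261a5236b9 fun a b c _ _ _ _ _ _ _ _ _ _ _ _ _ _ _ _ _ _ _ _ _ _ _ _ _ _ _ _ _ _ _ _ _ _ _ _ _ _ _ _ _ _ _ _ _ _ =>
 (b (a 2 8)<|b (a 3 7)<|b (a 5 6)<|b (a 7 1)<|b (a 11 1)<|b (a 31 1)<|b (a 37 1)<|b (a 67 1)<|c))

def ords_ly : List ℕ := (beta% delta% lq261a5236b9 fun _ b c _ _ _ _ _ _ _ _ _ _ _ _ _ _ _ _ _ _ _ _ _ _ _ _ _ _ _ _ _ _ _ _ _ _ _ _ _ _ _ _ _ _ _ _ _ _ =>
 (b 60<|b 168<|b 360<|b 504<|b 660<|b 2520<|b 6048<|b 7920<|b 14880<|b 20160<|b 25920<|b 32736<|b 95040<|b 126000<|b 181440<|b 372000<|b 443520<|b 604800<|b 976500<|b 1814400<|b 3265920<|b 19958400<|b 898128000<|b 5859000000<|b 51765179004000000<|c))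

noncomputable def certs_ly : List (ℕ × ℕ × ℕ × List (ℕ × ℕ)) :=
  (by
  refine (?fq9025 : ((pk61l (fun i1 => (_root_.Prod.mk (pk61d (nat_lit 33) 
    (nat_lit 0xae9c9f600d6216200026115000031d580000dd7c00003b99d0001275000006c4800002d6900000b13000003d8600001734000003ff000001950000009d8000003a2000000f78000005e80000013b000000294000000fc0000005a0000002d0000000a80000001e0000000f0000000780000003c) i1) (_root_.Prod.mk (pk61d (nat_lit 3) 
    (nat_lit 0x2492492492492492898d1) i1) (_root_.Prod.mk (nat_lit 0) (pk61l (fun i2 => (_root_.Prod.mk (pk61d (nat_lit 7) 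
    (nat_lit 0x10d29f161c283) (pk61d (nat_lit 3) 
    (nat_lit 0x1352d1d546087aa8758982358983354c8d62643d542356a11ac681d63446b132358994358c8d6340ead42358991ac4c8d63446b132358d2d6320a1ac646b1ad63442d632358d1026aca) i2)) (pk61d (nat_lit 5) 
    (nat_lit 0x3eb39462) (pk61d (nat_lit 3) 
    (nat_lit 0x5128c36ec21badd0db7006db70371b81b6dc0dd6e876db436db61b6db0e492012470330001b6db16db686e49006db81b6db0e49200db6c10000198000236d80000020000000000c2498) i2)))) (Nat.mul (nat_lit 7) i1) (Nat.mul (nat_lit 7) (Nat.succ i1)) List.nil))))) (nat_lit 0) (nat_lit 28) List.nil) : List (ℕ × ℕ × ℕ × List (ℕ × ℕ)))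
    = ?xq9025 → (List (ℕ × ℕ × ℕ × List (ℕ × ℕ)))) ?hq9025; (case hq9025 => (set_option maxRecDepth 1000000 in set_option simprocs false in conv => lhs; reduce; dsimp only)); intro _; exact ?xq9025 : List (ℕ × ℕ × ℕ × List (ℕ × ℕ)))

set_option maxRecDepth 100000 in
/-- groups of the order of `Ly` -/
theorem all_ly (T : OrderTable.{0})
    (hS : ∀ (S : Type) [Group S] [Finite S], IsSimpleGroup S → IsKnownSimple' S) :
    AllSimple.{u} 51765179004000000 :=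
  allSimple T hS (l := l_ly) (by decide +kernel) (by decide) (L := ords_ly) (by (first | (rewrite [Cfsg.Agent.KOd6bd8d0.e1.{0}, Cfsg.Agent.KOd6bd8d0.e14, Cfsg.Agent.KOd6bd8d0.e15, Cfsg.Agent.KOd6bd8d0.e17]; decide +kernel) | decide +kernel))
    (tr0 := (beta% delta% lq261a5236b9 fun a b c _ _ _ _ _ _ _ _ _ _ _ _ _ _ _ _ _ _ _ _ _ _ _ _ _ _ _ _ _ _ _ _ _ _ _ _ _ _ _ _ _ _ _ _ _ _ =>
 (b (a 3 2)<|b (a 5 2)<|b (a 11 2)<|b (a 37 2)<|b (a 67 2)<|b (a 31 3)<|b (a 7 11)<|c))) (by decide +kernel) (certs := certs_ly) (by (first | (rewrite [Cfsg.Agent.KOd6bd8d0.e1.{0}, Cfsg.Agent.KOd6bd8d0.e32]; decide +kernel) | decide +kernel))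

def l_th : List (ℕ × ℕ) := (beta% delta% lq261a5236b9 fun a b c _ _ _ _ _ _ _ _ _ _ _ _ _ _ _ _ _ _ _ _ _ _ _ _ _ _ _ _ _ _ _ _ _ _ _ _ _ _ _ _ _ _ _ _ _ _ =>
 (b (a 2 15)<|b (a 3 10)<|b (a 5 3)<|b (a 7 2)<|b (a 13 1)<|b (a 19 1)<|b (a 31 1)<|c))

def ords_th : List ℕ := (beta% delta% lq261a5236b9 fun _ b c _ e _ _ _ _ _ _ _ _ _ _ _ _ _ _ _ _ _ _ _ _ _ _ _ _ _ _ _ _ _ _ _ _ _ _ _ _ _ _ _ _ _ _ _ _ =>
 (let f:=(let f:=(let f:=(e 251596800<|e 1056706560<|e 4585351680<|e 20158709760<|e 90745943887872000<|c);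
 (e 9999360<|e 17971200<|e 42456960<|e 174182400<|e 211341312<|f));
 (let f:=(e 1814400<|e 3265920<|e 4245696<|e 5515776<|e 6065280<|f);
 (e 262080<|e 372000<|e 604800<|e 976500<|e 1451520<|f)));
 (let f:=(let f:=(e 29120<|e 58800<|e 62400<|e 126000<|e 181440<|f);
 (e 7800<|e 9828<|e 14880<|e 20160<|e 25920<|f));
 (let f:=(e 1092<|e 2520<|e 3420<|e 5616<|e 6048<|f);
 (b 60<|b 168<|b 360<|b 504<|f)))))

noncomputable def certs_th : List (ℕ × ℕ × ℕ × List (ℕ × ℕ)) :=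
  (by
  refine (?fq9026 : ((pk61l (fun i1 => (_root_.Prod.mk (pk61d (nat_lit 35) 
    (nat_lit 0x4b18d80002229dd4000fbf04000077f880000c98d000014c3a00000a1f5e0000891c00000989400000b9190000150a8000020646000031d580000375f000005898000007733a000093a800000b5a400000fff000001626000002c4c000003d86000003cf00000072d80000071c000000ca8000001950000002760000004ec000000744000000999000000f3c0000017a0000002f400000057c0000006ae0000009d80000013b0000001110000000fc0000001f80000002d00000005a0000000b40000000a80000001500000000f00000001e00000003c) i1) (_root_.Prod.mk (pk61d (nat_lit 2) 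
    (nat_lit 0x155555555595599565659e679) i1) (_root_.Prod.mk (nat_lit 0) (pk61l (fun i2 => (_root_.Prod.mk (pk61d (nat_lit 5) 
    (nat_lit 0x3f369ca3) (pk61d (nat_lit 3) 
    (nat_lit 0x1aa306c4c1aa31622c1aa3163281b130ac2c18ea08d8c1ad406c4c1b1a163441b1a1634458d10ac641b13b1a201b1a163442b0b163281b13563202b0bb1a201b1a08cac1b1a0ac64d8d006c68156308d72c68806c681b1a363401b1aaa32158c80ac2cd8d006c6aa8c8563202b0b) i2)) (pk61d (nat_lit 5) 
    (nat_lit 0x7e6d39462) (pk61d (nat_lit 3) 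
    (nat_lit 0x90072481b76052481b760492624920524836d9892482db6892481b6d849241b6d84d24124904a24249206d801b6d84d24149206db61c9204920224a06d801b6d8db681c91852441b6c06db62c920b6da1b6006db61c9186db01b6d829201248089281b6c06db60a4804920224a0) i2)))) (Nat.mul (nat_lit 6) i1) (Nat.mul (nat_lit 6) (Nat.succ i1)) List.nil))))) (nat_lit 0) (nat_lit 49) List.nil) : List (ℕ × ℕ × ℕ × List (ℕ × ℕ)))
    = ?xq9026 → (List (ℕ × ℕ × ℕ × List (ℕ × ℕ)))) ?hq9026; (case hq9026 => (set_option maxRecDepth 1000000 in set_option simprocs false in conv => lhs; reduce; dsimp only)); intro _; exact ?xq9026 : List (ℕ × ℕ × ℕ × List (ℕ × ℕ)))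

set_option maxRecDepth 100000 in
/-- groups of the order of `Th` -/
theorem all_th (T : OrderTable.{0})
    (hS : ∀ (S : Type) [Group S] [Finite S], IsSimpleGroup S → IsKnownSimple' S) :
    AllSimple.{u} 90745943887872000 :=
  allSimple T hS (l := l_th) (by decide +kernel) (by decide) (L := ords_th) (by (first | (rewrite [Cfsg.Agent.KOd6bd8d0.e1.{0}, Cfsg.Agent.KOd6bd8d0.e14, Cfsg.Agent.KOd6bd8d0.e15, Cfsg.Agent.KOd6bd8d0.e17]; decide +kernel) | decide +kernel))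
    (tr0 := [(3, 2), (5, 2), (7, 2), (19, 2), (31, 3), (13, 5)]) (by decide +kernel) (certs := certs_th) (by (first | (rewrite [Cfsg.Agent.KOd6bd8d0.e1.{0}, Cfsg.Agent.KOd6bd8d0.e32]; decide +kernel) | decide +kernel))

end Cfsg.Agent.H154.PG.DataA
end

private theorem dce_42f75635a90f : _root_.True := by
  try have : _root_.True := by simp only [_root_.Cfsg.Agent.H154.PG.loop.eq_def]
  try have : _root_.True := by simp only [_root_.Cfsg.Agent.H154.PG.na.eq_1]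
  try have : _root_.True := by simp only [_root_.Cfsg.Agent.H154.PG.solEdge.eq_1]
  try have : _root_.True := by simp only [_root_.Cfsg.Agent.H154.PG.allLt.eq_def]
  try have : _root_.True := by simp only [_root_.Cfsg.Agent.H154.PG.run.eq_def]
  try have : _root_.True := by simp only [_root_.Cfsg.Agent.H154.PG.memb.eq_1]
  try have : _root_.True := by simp only [_root_.Cfsg.Agent.H154.PG.anyLt.eq_1]
  try have : _root_.True := by simp only [_root_.Cfsg.Agent.H154.PG.val.eq_1]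
  try have : _root_.True := by simp only [_root_.Cfsg.Agent.H154.PG.val.eq_2]
  try have : _root_.True := by simp only [_root_.Cfsg.Agent.H154.PG.memb.eq_2]
  try have : _root_.True := by simp only [_root_.Cfsg.Agent.H154.PG.anyLt.eq_2]
  try have : _root_.True := by simp only [_root_.Cfsg.Agent.H154.PG.edge.eq_1]
  try have : _root_.True := by simp only [_root_.Cfsg.Agent.H154.PG.hall.eq_1]
  try have : _root_.True := by simp only [_root_.Cfsg.Agent.H154.PG.ex.eq_1]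
  try have : _root_.True := by simp only [_root_.Cfsg.Agent.H154.PG.forced.eq_1]
  try have : _root_.True := by simp only [_root_.Cfsg.Agent.H154.PG.primesOf.eq_1]
  try have : _root_.True := by simp only [_root_.Cfsg.Agent.H154.PG.ex.eq_2]
  try have : _root_.True := by simp only [_root_.Cfsg.Agent.H154.PG.solCheck.eq_1]
  try have : _root_.True := by simp only [_root_.Cfsg.Agent.H154.PG.loop.eq_2]
  try have : _root_.True := by simp only [_root_.Cfsg.Agent.H154.PG.loop.eq_1]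
  try have : _root_.True := by simp only [_root_.Cfsg.Agent.H154.PG.ex.eq_def]
  try have : _root_.True := by simp only [_root_.Cfsg.Agent.H154.PG.chk.eq_1]
  try have : _root_.True := by simp only [_root_.Cfsg.Agent.H154.PG.dv.eq_1]
  try have : _root_.True := by simp only [_root_.Cfsg.Agent.H154.PG.cfour.eq_1]
  try have : _root_.True := by simp only [_root_.Cfsg.Agent.H154.PG.anyLt.eq_def]
  try have : _root_.True := by simp only [_root_.Cfsg.Agent.H154.PG.memb.eq_def]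
  try have : _root_.True := by simp only [_root_.Cfsg.Agent.H154.PG.val.eq_def]
  try have : _root_.True := by simp only [_root_.Cfsg.Agent.H154.PG.allLt.eq_1]
  try have : _root_.True := by simp only [_root_.Cfsg.Agent.H154.PG.run.eq_1]
  try have : _root_.True := by simp only [_root_.Cfsg.Agent.H154.PG.run.eq_2]
  try have : _root_.True := by simp only [_root_.Cfsg.Agent.H154.PG.allLt.eq_2]
  exact _root_.True.intro
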